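import Cfsg.Agent.H55.SLTwoSizes

/-!
# Centralisers in `PSL(2, F)`
-/

set_option autoImplicit false
set_option linter.style.haveILetI false

namespace Cfsg.Agent.H86.PSLSizes

open Matrix Cfsg.Agent.Linear Cfsg.Agent.H55

variable {F : Type*} [Field F]

local notation "M2" => Matrix (Fin 2) (Fin 2) F
local notation "S2" => Matrix.SpecialLinearGroup (Fin 2) F
local notation "P2" => Matrix.ProjectiveSpecialLinearGroup (Fin 2) F

theorem exists_lift (x : P2) : ∃ X : S2, toPSL X = x := QuotientGroup.mk'_surjective _ x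

/-- Outside the involutions, centralisers are abelian. -/
theorem commute_of_mem_centralizer [Fintype F] {x : P2} (hx : x ≠ 1)
    (h : x * x ≠ 1 ∨ (2 : F) = 0) {a b : P2}
    (ha : a ∈ Subgroup.centralizer ({x} : Set P2)) (hb : b ∈ Subgroup.centralizer ({x} : Set P2)) :
    Commute a b := by
  obtain ⟨X, rfl⟩ := exists_lift x
  obtain ⟨A, rfl⟩ := exists_lift a
  obtain ⟨B, rfl⟩ := exists_lift b
  have hns := not_scalar_of_ne_one hx
  have htr : (X : M2).trace ≠ 0 ∨ (2 : F) = 0 := h.imp_left fun h1 h0 => h1 (by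
    rw [← sq]
    exact orderOf_dvd_iff_pow_eq_one.1 (trace_zero_order h0))
  have hA : A ∈ Subgroup.centralizer ({X} : Set S2) := comap_eq_centralizer htr ▸ Subgroup.mem_comap.2 ha
  have hB : B ∈ Subgroup.centralizer ({X} : Set S2) := comap_eq_centralizer htr ▸ Subgroup.mem_comap.2 hb
  show toPSL A * toPSL B = toPSL B * toPSL A
  rw [← map_mul, ← map_mul, centralizer_comm hns hA hB]

/-- The centraliser of a trace-zero element of `SL(2, F)` is cyclic. -/
theorem isCyclic_centralizer_trace_zero [Fintype F] (h2 : (2 : F) ≠ 0) {X : S2}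
    (ht : (X : M2).trace = 0) : IsCyclic ↥(Subgroup.centralizer ({X} : Set S2)) := by
  have hns : ¬ IsScalarTwo (X : M2) := not_isScalarTwo_of_trace (by
    rw [ht]
    intro h
    exact h2 (mul_self_eq_zero.1 (show (2 : F) * 2 = 0 by linear_combination -h)))
  have hXX : (X : M2) * (X : M2) = -1 := by
    rw [SL_sq_eq, ht, zero_smul, zero_sub]
  choose α β hαβ using fun A : ↥(Subgroup.centralizer ({X} : Set S2)) =>
    (mem_centralizer_SL_two hns).1 A.2
  obtain ⟨ι, hι⟩ := IsAlgClosed.exists_pow_nat_eq (-1 : AlgebraicClosure F) two_pos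
  have hinj := (algebraMap F (AlgebraicClosure F)).injective
  let φ : ↥(Subgroup.centralizer ({X} : Set S2)) →* AlgebraicClosure F :=
    { toFun := fun A => algebraMap F _ (α A) + algebraMap F _ (β A) * ι
      map_one' := by
        obtain ⟨h1, h0⟩ := smul_add_smul_injective hns
          ((hαβ 1).symm.trans (show ((1 : S2) : M2) = (1 : F) • (1 : M2) + (0 : F) • (X : M2) by simp))
        rw [h1, h0, map_one, map_zero, zero_mul, add_zero]
      map_mul' := fun A B => by
        have e : ((A * B : ↥(Subgroup.centralizer ({X} : Set S2))) : S2) = (A : S2) * (B : S2) := rfl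
        obtain ⟨h1, h0⟩ := smul_add_smul_injective hns
          ((hαβ (A * B)).symm.trans (show (((A * B : ↥(Subgroup.centralizer ({X} : Set S2))) : S2) : M2) =
            (α A * α B - β A * β B) • (1 : M2) + (α A * β B + β A * α B) • (X : M2) by
            rw [e, Matrix.SpecialLinearGroup.coe_mul, hαβ A, hαβ B]
            simp only [add_mul, mul_add, Matrix.smul_mul, Matrix.mul_smul, one_mul, mul_one, hXX,
              smul_smul, smul_neg, sub_smul, add_smul]
            rw [mul_comm (α B) (α A), mul_comm (β B) (β A), mul_comm (α B) (β A), mul_comm (β B) (α A)]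
            abel))
        rw [h1, h0, map_sub, map_add, map_mul, map_mul, map_mul, map_mul]
        linear_combination (-(algebraMap F (AlgebraicClosure F) (β A) *
          algebraMap F (AlgebraicClosure F) (β B))) * hι }
  refine isCyclic_of_injective_ringHom φ ((injective_iff_map_eq_one φ).2 fun A hA => ?_)
  have hA1 : algebraMap F (AlgebraicClosure F) (α A) + algebraMap F _ (β A) * ι = 1 := hA
  have hd : (((A : S2)) : M2).det = α A ^ 2 + β A ^ 2 := by
    rw [hαβ A, det_smul_add_smul, ht, Matrix.SpecialLinearGroup.det_coe]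
    ring
  rw [Matrix.SpecialLinearGroup.det_coe] at hd
  have hd' := congrArg (algebraMap F (AlgebraicClosure F)) hd
  simp only [map_one, map_add, map_pow] at hd'
  have h3 : algebraMap F (AlgebraicClosure F) (α A) - algebraMap F _ (β A) * ι = 1 := by
    linear_combination (algebraMap F (AlgebraicClosure F) (α A) -
      algebraMap F (AlgebraicClosure F) (β A) * ι) * (-hA1) - hd' -
      (algebraMap F (AlgebraicClosure F) (β A)) ^ 2 * hι
  have hα : α A = 1 := sub_eq_zero.1 ((mul_eq_zero.1 (show (2 : F) * (α A - 1) = 0 from hinj (by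
    simp only [map_mul, map_sub, map_one, map_zero, map_ofNat]
    linear_combination hA1 + h3))).resolve_left h2)
  have hβ : β A = 0 := by
    have h4 : algebraMap F (AlgebraicClosure F) (β A) * ι = 0 := by
      rw [hα, map_one] at hA1
      exact add_eq_left.1 hA1
    rcases mul_eq_zero.1 h4 with h | h
    · exact hinj (h.trans (map_zero _).symm)
    · rw [h] at hι
      norm_num at hι
  refine Subtype.ext (Subtype.ext ?_)
  rw [hαβ A, hα, hβ]
  simp

/-- The centraliser of an involution has a cyclic subgroup which the remaining elements invert. -/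
theorem exists_cyclic_inverted [Fintype F] (h2 : (2 : F) ≠ 0) {x : P2} (hx : x ≠ 1) (hx2 : x * x = 1) :
    ∃ M : Subgroup P2, x ∈ M ∧ IsCyclic ↥M ∧ M ≤ Subgroup.centralizer ({x} : Set P2) ∧
      (∀ s ∈ Subgroup.centralizer ({x} : Set P2), ∀ t ∈ Subgroup.centralizer ({x} : Set P2),
        s ∉ M → t ∉ M → s * t ∈ M) ∧
      ∀ s ∈ Subgroup.centralizer ({x} : Set P2), s ∉ M → ∀ a ∈ M, s * a * s⁻¹ = a⁻¹ := by
  obtain ⟨X, rfl⟩ := exists_lift x
  have hns := not_scalar_of_ne_one hx
  have ht : (X : M2).trace = 0 := by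
    rw [← map_mul, toPSL_two_eq_one_iff] at hx2
    have hsq := SL_sq_eq X
    by_contra ht0
    refine hns (isScalarTwo_iff.2 ?_)
    rcases hx2 with e | e <;> have e' := congrArg (fun Z : S2 => (Z : M2)) e <;>
      simp only [Matrix.SpecialLinearGroup.coe_mul, Matrix.SpecialLinearGroup.coe_one,
        Matrix.SpecialLinearGroup.coe_neg] at e' <;> rw [hsq] at e'
    · refine ⟨(X : M2).trace⁻¹ * 2, ?_⟩
      rw [sub_eq_iff_eq_add] at e'
      rw [mul_smul, two_smul, ← e', inv_smul_smul₀ ht0]
    · refine ⟨0, ?_⟩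
      rw [sub_eq_iff_eq_add, neg_add_cancel] at e'
      rw [zero_smul, ← inv_smul_smul₀ ht0 (X : M2), e', smul_zero]
  set C := Subgroup.centralizer ({X} : Set S2)
  refine ⟨C.map (QuotientGroup.mk' (Subgroup.center S2)), ⟨X, Subgroup.mem_centralizer_singleton_iff.2 rfl, rfl⟩, ?_, ?_, ?_, ?_⟩
  · haveI := isCyclic_centralizer_trace_zero h2 ht
    exact isCyclic_of_surjective ((QuotientGroup.mk' (Subgroup.center S2)).subgroupMap C) (MonoidHom.subgroupMap_surjective _ _)
  · rintro _ ⟨A, hA, rfl⟩
    exact (mem_preimage_centralizer X A).2 (Or.inl (mem_centralizer_iff_conj.1 hA))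
  · intro s hs t ht hsM htM
    obtain ⟨Y, rfl⟩ := exists_lift s
    obtain ⟨T, rfl⟩ := exists_lift t
    have hY := ((mem_preimage_centralizer X Y).1 hs).resolve_left fun h =>
      hsM ⟨Y, mem_centralizer_iff_conj.2 h, rfl⟩
    have hT := ((mem_preimage_centralizer X T).1 ht).resolve_left fun h =>
      htM ⟨T, mem_centralizer_iff_conj.2 h, rfl⟩
    refine ⟨Y * T, mem_centralizer_iff_conj.2 ?_, map_mul _ Y T⟩
    rw [show Y * T * X * (Y * T)⁻¹ = Y * (T * X * T⁻¹) * Y⁻¹ by group, hT, mul_neg, neg_mul, hY,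
      neg_neg]
  · rintro s hs hsM _ ⟨A, hA, rfl⟩
    obtain ⟨Y, rfl⟩ := exists_lift s
    have hY := ((mem_preimage_centralizer X Y).1 hs).resolve_left fun h =>
      hsM ⟨Y, mem_centralizer_iff_conj.2 h, rfl⟩
    obtain ⟨a, b, hab⟩ := (mem_centralizer_SL_two hns).1 hA
    have htA : (A : M2).trace = 2 * a := by rw [hab, trace_smul_add_smul, ht, mul_zero, add_zero]
    have hYA : ((Y * A * Y⁻¹ : S2) : M2) = a • (1 : M2) - b • (X : M2) := by
      have hY' := congrArg (fun Z : S2 => (Z : M2)) hY
      simp only [Matrix.SpecialLinearGroup.coe_mul, Matrix.SpecialLinearGroup.coe_neg] at hY'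
      rw [Matrix.SpecialLinearGroup.coe_mul, Matrix.SpecialLinearGroup.coe_mul, hab, mul_add, add_mul,
        Matrix.mul_smul, Matrix.mul_smul, Matrix.smul_mul, Matrix.smul_mul, hY', mul_one,
        ← Matrix.SpecialLinearGroup.coe_mul, mul_inv_cancel, Matrix.SpecialLinearGroup.coe_one,
        smul_neg, sub_eq_add_neg]
    have key : Y * A * Y⁻¹ * A = 1 := Subtype.ext (by
      rw [Matrix.SpecialLinearGroup.coe_mul, hYA, Matrix.SpecialLinearGroup.coe_one,
        show a • (1 : M2) - b • (X : M2) = (A : M2).trace • (1 : M2) - (A : M2) by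
          rw [htA, hab, two_mul, add_smul]; abel,
        sub_mul, Matrix.smul_mul, one_mul, SL_sq_eq]
      abel)
    rw [← map_inv, ← map_inv, ← map_mul, ← map_mul, eq_inv_of_mul_eq_one_left key]

end Cfsg.Agent.H86.PSLSizes
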