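import Mathlib

/-!
# Parameters of `PSL(2, q)`

For odd `q` we write `q = h + k` with `{2h, 2k} = {q - 1, q + 1}` and `k` even.
-/

set_option autoImplicit false

namespace Cfsg.Agent.H86.PSLSizes

/-- The parameters of `PSL(2, q)` for odd `q ≥ 7`. -/
structure OddParams (q h k : ℕ) : Prop where
  eq : q = h + k
  adj : h = k + 1 ∨ k = h + 1
  even : Even k
  four : 4 ≤ k

namespace OddParams

variable {q h k : ℕ}

theorem three_le_h (P : OddParams q h k) : 3 ≤ h := by
  have := P.adj; have := P.four; omega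

theorem h_odd (P : OddParams q h k) : Odd h := by
  obtain ⟨m, hm⟩ := P.even
  rw [Nat.odd_iff]
  have := P.adj; omega

theorem q_odd (P : OddParams q h k) : Odd q := by
  rw [P.eq]
  exact P.h_odd.add_even P.even

theorem seven_le (P : OddParams q h k) : 7 ≤ q := by
  have := P.eq; have := P.four; have := P.three_le_h; omega

theorem cop_hk (P : OddParams q h k) : h.Coprime k := by
  rcases P.adj with e | e <;> rw [e]
  · exact (Nat.coprime_self_add_right.2 (Nat.coprime_one_right k)).symm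
  · exact Nat.coprime_self_add_right.2 (Nat.coprime_one_right h)

theorem cop_qh (P : OddParams q h k) : q.Coprime h := by
  rw [P.eq, add_comm]
  exact Nat.coprime_add_self_left.2 P.cop_hk.symm

theorem cop_qk (P : OddParams q h k) : q.Coprime k := by
  rw [P.eq]
  exact Nat.coprime_add_self_left.2 P.cop_hk

theorem cop_q2k (P : OddParams q h k) : q.Coprime (2 * k) :=
  Nat.Coprime.mul_right (Nat.coprime_two_right.2 P.q_odd) P.cop_qk

theorem cop_h2k (P : OddParams q h k) : h.Coprime (2 * k) :=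
  Nat.Coprime.mul_right (Nat.coprime_two_right.2 P.h_odd) P.cop_hk

theorem sq (P : OddParams q h k) : q ^ 2 = 4 * (h * k) + 1 := by
  rw [P.eq]
  rcases P.adj with e | e <;> rw [e] <;> ring

theorem not_dvd_two_mul (P : OddParams q h k) {m : ℕ} (hm : m.Coprime q) :
    ¬ q ∣ m := fun hd => by
  have := Nat.Coprime.eq_one_of_dvd hm.symm hd
  have := P.seven_le; omega

theorem not_h_dvd (P : OddParams q h k) {m : ℕ} (hm : h.Coprime m) : ¬ h ∣ m := fun hd => by
  have := hm.eq_one_of_dvd hd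
  have := P.three_le_h; omega

theorem not_k_dvd (P : OddParams q h k) {m : ℕ} (hm : k.Coprime m) : ¬ k ∣ m := fun hd => by
  have := hm.eq_one_of_dvd hd
  have := P.four; omega

/-- Every odd `q ≥ 7` has parameters. -/
theorem exists_params (hodd : ¬ 2 ∣ q) (h7 : 7 ≤ q) :
    ∃ h k : ℕ, OddParams q h k ∧
      ((q % 4 = 1 → q + 1 = 2 * h ∧ q - 1 = 2 * k) ∧
        (q % 4 = 3 → q - 1 = 2 * h ∧ q + 1 = 2 * k)) := by
  rcases (by omega : q % 4 = 1 ∨ q % 4 = 3) with e | e
  · refine ⟨(q + 1) / 2, (q - 1) / 2, ⟨by omega, by omega, Nat.even_iff.2 (by omega), by omega⟩,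
      fun _ => ⟨by omega, by omega⟩, fun e' => by omega⟩
  · refine ⟨(q - 1) / 2, (q + 1) / 2, ⟨by omega, by omega, Nat.even_iff.2 (by omega), by omega⟩,
      fun e' => by omega, fun _ => ⟨by omega, by omega⟩⟩

/-- The nontrivial class sizes in terms of the parameters. -/
theorem size_set (P : OddParams q h k) :
    (q % 4 = 1 → q + 1 = 2 * h → q - 1 = 2 * k →
      ({1, (q ^ 2 - 1) / 2, q * (q + 1) / 2, q * (q - 1), q * (q + 1)} : Set ℕ) =
        {1, 2 * (h * k), q * h, q * (2 * k), q * (2 * h)}) ∧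
    (q % 4 = 3 → q - 1 = 2 * h → q + 1 = 2 * k →
      ({1, (q ^ 2 - 1) / 2, q * (q - 1) / 2, q * (q + 1), q * (q - 1)} : Set ℕ) =
        {1, 2 * (h * k), q * h, q * (2 * k), q * (2 * h)}) := by
  have hu : (q ^ 2 - 1) / 2 = 2 * (h * k) := by rw [P.sq]; omega
  refine ⟨fun _ e1 e2 => ?_, fun _ e1 e2 => ?_⟩ <;>
  · rw [hu, e1, e2, show q * (2 * h) / 2 = q * h by rw [mul_left_comm]; omega]

end OddParams

end Cfsg.Agent.H86.PSLSizes
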