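import Cfsg.Agent.H86.PSLSizes.Quotient

/-!
# The central quotient of a group with the class sizes of `PSL(2, q)`
-/

set_option autoImplicit false
set_option linter.style.haveILetI false
set_option linter.unusedSectionVars false

namespace Cfsg.Agent.H86.PSLSizes

open Subgroup
open Cfsg.Agent.Hall.TwoSizes (IsQ)
open Cfsg.Agent.H86.ClassSizes
open Cfsg.Agent.H86.ThreeSizes

universe u

variable {G : Type u} [Group G] [Finite G] {q h k : ℕ}

/-- The nontrivial class sizes of `PSL(2, q)` for even `q`. -/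
def evenSizes (q : ℕ) : Set ℕ := {q * (q - 1), q ^ 2 - 1, q * (q + 1)}

/-- The nontrivial class sizes of `PSL(2, q)` for odd `q`. -/
def oddSizes (q h k : ℕ) : Set ℕ := {2 * (h * k), q * h, q * (2 * k), q * (2 * h)}

theorem sz_ne_zero (x : G) : sz x ≠ 0 := index_ne_zero_of_finite

theorem mz_of_index {x : G} {g n : ℕ} (hg : (center G).index = g * n) (hx : sz x = n) : mz x = g := by
  refine Nat.eq_of_mul_eq_mul_right (Nat.pos_of_ne_zero (sz_ne_zero x)) ?_
  rw [mz_mul_sz, hg, hx]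

theorem dvd_of_prime_dvd_index {S : Set ℕ} (H : HasSizes G S) {N l : ℕ} (hl : l.Prime)
    (hS : ∀ n ∈ S, n ∣ N) (hd : l ∣ (center G).index) : l ∣ N := by
  haveI : Fact l.Prime := ⟨hl⟩
  obtain ⟨x, hx⟩ := exists_dvd_sz hd
  have hxz : x ∉ center G := fun hz => hl.not_dvd_one (sz_eq_one_iff.2 hz ▸ hx)
  exact hx.trans (hS _ (H.mem x hxz))

theorem dvd_mz_of_dvd {x : G} {n m : ℕ} (hx : sz x = n) {t N : ℕ}
    (hi : (center G).index = t * N) (hN : N = m * n) : mz x = t * m :=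
  mz_of_index (by rw [hi, hN, mul_assoc]) hx

/-! ### Even `q` -/

section Even

variable (hq : Even q) (h4 : 4 ≤ q) (H : HasSizes G (evenSizes q))
include hq h4 H

omit H [Finite G] [Group G] in
theorem even_facts : q.Coprime (q - 1) ∧ q.Coprime (q + 1) ∧ (q + 1).Coprime (q - 1) ∧
    q ^ 2 - 1 = (q + 1) * (q - 1) ∧ q * (q ^ 2 - 1) = q * (q + 1) * (q - 1) := by
  have h2 : q ^ 2 - 1 = (q + 1) * (q - 1) := by simpa using Nat.sq_sub_sq q 1
  refine ⟨?_, Nat.coprime_self_add_right.2 (Nat.coprime_one_right q), ?_, h2, by rw [h2, mul_assoc]⟩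
  · exact (Nat.coprime_self_sub_right (by omega)).2 (Nat.coprime_one_right q)
  · obtain ⟨m, hm⟩ := hq
    rw [show q + 1 = (q - 1) + 2 by omega, Nat.coprime_self_add_left]
    exact Nat.coprime_two_left.2 (Nat.odd_iff.2 (by omega))

theorem even_index : (center G).index = q * (q ^ 2 - 1) := by
  obtain ⟨c1, c2, c3, hs, hN⟩ := even_facts hq h4
  obtain ⟨xa, hxa⟩ := H.exi (q * (q - 1)) (by simp [evenSizes])
  obtain ⟨xu, hxu⟩ := H.exi (q ^ 2 - 1) (by simp [evenSizes])
  obtain ⟨xb, hxb⟩ := H.exi (q * (q + 1)) (by simp [evenSizes])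
  obtain ⟨t, ht⟩ : q * (q + 1) * (q - 1) ∣ (center G).index := by
    rw [mul_assoc, mul_comm (q + 1), ← mul_assoc]
    refine Nat.Coprime.mul_dvd_of_dvd_of_dvd ?_ (hxa ▸ ⟨mz xa, (mz_mul_sz xa).symm.trans (mul_comm _ _)⟩)
      ((dvd_mul_left (q + 1) q).trans (hxb ▸ ⟨mz xb, (mz_mul_sz xb).symm.trans (mul_comm _ _)⟩))
    exact Nat.Coprime.mul_left c2 c3.symm
  rw [hN]
  suffices ht1 : t = 1 by rw [ht, ht1, mul_one]
  by_contra hne
  obtain ⟨l, hl, hlt⟩ := Nat.exists_prime_and_dvd hne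
  have hdvd : l ∣ q * (q + 1) * (q - 1) := by
    refine dvd_of_prime_dvd_index H hl ?_ (ht ▸ hlt.trans (dvd_mul_left _ _))
    rintro n (rfl | rfl | rfl)
    · exact Dvd.intro (q + 1) (by ring)
    · exact Dvd.intro q (by rw [hs]; ring)
    · exact dvd_mul_right _ _
  have hi : (center G).index = t * (q * (q + 1) * (q - 1)) := by rw [ht, mul_comm]
  have h1 : 1 ∉ evenSizes q := by
    rintro (e | e | e)
    · have := Nat.eq_one_of_mul_eq_one_right e.symm; omega
    · rw [hs] at e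
      have := Nat.eq_one_of_mul_eq_one_right e.symm; omega
    · have := Nat.eq_one_of_mul_eq_one_right e.symm; omega
  have hext : ∀ y : G, sz y = q * (q - 1) ∨ sz y = q ^ 2 - 1 → Extremal y := by
    intro y hy v hv hd
    rcases H.mem v hv with e | e | e <;> rcases hy with e' | e' <;> rw [e, e'] at hd ⊢
    all_goals exfalso
    all_goals rw [hs] at *
    all_goals rcases hd with hd | hd
    all_goals first
      | (have := c2.eq_one_of_dvd ((dvd_mul_right q _).trans hd |> fun z =>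
          (c1.dvd_of_dvd_mul_right z)); omega)
      | (have := c2.symm.eq_one_of_dvd (c3.dvd_of_dvd_mul_right ((dvd_mul_right (q + 1) _).trans hd)); omega)
      | (have := c3.symm.eq_one_of_dvd (c1.symm.dvd_of_dvd_mul_left ((dvd_mul_left (q - 1) _).trans hd)); omega)
      | (have := c3.eq_one_of_dvd (c2.symm.dvd_of_dvd_mul_left ((dvd_mul_left (q + 1) _).trans hd)); omega)
  have hy_nc : ∀ y : G, sz y ∈ evenSizes q → y ∉ center G := fun y hy => not_mem_center_of_sz h1 hy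
  rcases (hl.dvd_mul.1 hdvd) with hd | hd
  rcases (hl.dvd_mul.1 hd) with hd | hd
  · obtain ⟨s, hsp, hsd⟩ := Nat.exists_prime_and_dvd (show q + 1 ≠ 1 by omega)
    have hm : mz xa = t * (q + 1) := dvd_mz_of_dvd hxa hi (by ring)
    refine false_of_extremal (hext xa (.inl hxa)) (hy_nc xa (by simp [hxa, evenSizes])) hl hsp
      ?_ (hm ▸ hlt.trans (dvd_mul_right _ _)) (hm ▸ hsd.trans (dvd_mul_left _ _)) (x := xu) ?_ ?_
    · rintro rfl
      exact hl.not_dvd_one (c2.gcd_eq_one ▸ Nat.dvd_gcd hd hsd)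
    · rw [hxu, hs]
      intro hd'
      exact hl.not_dvd_one ((Nat.Coprime.mul_right c2 c1).gcd_eq_one ▸ Nat.dvd_gcd hd hd')
    · rw [hxu, hxa, hs]
      intro hd'
      have := c2.symm.eq_one_of_dvd (c3.dvd_of_dvd_mul_right ((dvd_mul_right (q + 1) _).trans hd'))
      omega
  · obtain ⟨s, hsp, hsd⟩ := Nat.exists_prime_and_dvd (show q ≠ 1 by omega)
    have hm : mz xu = t * q := dvd_mz_of_dvd hxu hi (by rw [hs]; ring)
    refine false_of_extremal (hext xu (.inr hxu)) (hy_nc xu (by simp [hxu, evenSizes])) hl hsp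
      ?_ (hm ▸ hlt.trans (dvd_mul_right _ _)) (hm ▸ hsd.trans (dvd_mul_left _ _)) (x := xa) ?_ ?_
    · rintro rfl
      exact hl.not_dvd_one (c2.gcd_eq_one ▸ Nat.dvd_gcd hsd hd)
    · rw [hxa]
      intro hd'
      exact hl.not_dvd_one ((Nat.Coprime.mul_right c2.symm c3).gcd_eq_one ▸ Nat.dvd_gcd hd hd')
    · rw [hxu, hxa, hs]
      intro hd'
      have := c2.eq_one_of_dvd (c1.dvd_of_dvd_mul_right ((dvd_mul_right q _).trans hd'))
      omega
  · obtain ⟨s, hsp, hsd⟩ := Nat.exists_prime_and_dvd (show q ≠ 1 by omega)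
    have hm : mz xu = t * q := dvd_mz_of_dvd hxu hi (by rw [hs]; ring)
    refine false_of_extremal (hext xu (.inr hxu)) (hy_nc xu (by simp [hxu, evenSizes])) hl hsp
      ?_ (hm ▸ hlt.trans (dvd_mul_right _ _)) (hm ▸ hsd.trans (dvd_mul_left _ _)) (x := xb) ?_ ?_
    · rintro rfl
      exact hl.not_dvd_one (c1.gcd_eq_one ▸ Nat.dvd_gcd hsd hd)
    · rw [hxb]
      intro hd'
      exact hl.not_dvd_one ((Nat.Coprime.mul_right c1.symm c3.symm).gcd_eq_one ▸ Nat.dvd_gcd hd hd')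
    · rw [hxu, hxb, hs]
      intro hd'
      have := c2.eq_one_of_dvd (c1.dvd_of_dvd_mul_right ((dvd_mul_right q _).trans hd'))
      omega

theorem even_not_dvd_sz {l : ℕ} (hl : l.Prime) {w : G} (hw : IsQ l w) (hwz : w ∉ center G) :
    ¬ l ∣ sz w := by
  intro hd
  obtain ⟨c1, c2, c3, hs, hN⟩ := even_facts hq h4
  have hi := even_index hq h4 H
  rw [hN] at hi
  have hm := dvd_mz hl hw (mem_cz.2 (Commute.refl w)) hwz
  rcases H.mem w hwz with e | e | e
  · rw [dvd_mz_of_dvd (t := 1) (m := q + 1) e (by rw [hi, one_mul]) (by ring), one_mul] at hm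
    rw [e] at hd
    exact hl.not_dvd_one ((Nat.Coprime.mul_right c2.symm c3).gcd_eq_one ▸ Nat.dvd_gcd hm hd)
  · rw [dvd_mz_of_dvd (t := 1) (m := q) e (by rw [hi, one_mul]) (by rw [hs]; ring), one_mul] at hm
    rw [e, hs] at hd
    exact hl.not_dvd_one ((Nat.Coprime.mul_right c2 c1).gcd_eq_one ▸ Nat.dvd_gcd hm hd)
  · rw [dvd_mz_of_dvd (t := 1) (m := q - 1) e (by rw [hi, one_mul]) (by ring), one_mul] at hm
    rw [e] at hd
    exact hl.not_dvd_one ((Nat.Coprime.mul_right c1.symm c3.symm).gcd_eq_one ▸ Nat.dvd_gcd hm hd)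

theorem even_sz_bar (x : G) : sz (bar x) = sz x :=
  sz_bar_of_parts fun _ hl _ _ hw hwz => even_not_dvd_sz hq h4 H hl hw hwz

end Even

/-! ### Odd `q` -/

section Odd

variable (P : OddParams q h k) (H : HasSizes G (oddSizes q h k))
include P H

omit H [Finite G] [Group G] in
theorem one_not_mem_oddSizes : 1 ∉ oddSizes q h k := by
  have := P.four; have := P.three_le_h; have := P.seven_le
  rintro (e | e | e | e) <;> have := Nat.eq_one_of_mul_eq_one_right e.symm <;> omega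

omit H [Finite G] [Group G] in
theorem oddSizes_dvd {n : ℕ} (hn : n ∈ oddSizes q h k) : n ∣ q * h * (2 * k) := by
  rcases hn with rfl | rfl | rfl | rfl
  · exact Dvd.intro q (by ring)
  · exact dvd_mul_right _ _
  · exact Dvd.intro h (by ring)
  · exact Dvd.intro k (by ring)

omit H [Finite G] [Group G] in
theorem comparable {m n : ℕ} (hm : m ∈ oddSizes q h k) (hn : n ∈ oddSizes q h k)
    (hne : m ≠ q * (2 * h)) (hd : n ∣ m) : n = m := by
  have hqh : ¬ q ∣ 2 * (h * k) := P.not_dvd_two_mul (Nat.Coprime.symm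
    (Nat.Coprime.mul_right (Nat.coprime_two_right.2 P.q_odd) (Nat.Coprime.mul_right P.cop_qh P.cop_qk)))
  have hh : ¬ h ∣ q * (2 * k) := P.not_h_dvd (Nat.Coprime.mul_right P.cop_qh.symm P.cop_h2k)
  have hk : ¬ k ∣ q * h := P.not_k_dvd (Nat.Coprime.mul_right P.cop_qk.symm P.cop_hk.symm)
  rcases hm with rfl | rfl | rfl | rfl
  · rcases hn with rfl | rfl | rfl | rfl
    · rfl
    all_goals exact absurd ((dvd_mul_right q _).trans hd) hqh
  · rcases hn with rfl | rfl | rfl | rfl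
    · exact absurd ((Dvd.intro (2 * h) (by ring)).trans hd) hk
    · rfl
    · exact absurd ((Dvd.intro (q * 2) (by ring)).trans hd) hk
    · have h2 : 2 ∣ q * h := (Dvd.intro (q * h) (by ring)).trans hd
      exact absurd h2 (Nat.two_dvd_ne_zero.2 (Nat.odd_iff.1 (P.q_odd.mul P.h_odd)))
  · rcases hn with rfl | rfl | rfl | rfl
    · exact absurd ((Dvd.intro (2 * k) (by ring)).trans hd) hh
    · exact absurd ((Dvd.intro q (by ring)).trans hd) hh
    · rfl
    · exact absurd ((Dvd.intro (q * 2) (by ring)).trans hd) hh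
  · exact absurd rfl hne

omit P H in
theorem extremal_of_mem (P : OddParams q h k) (hmem : ∀ v : G, v ∉ center G → sz v ∈ oddSizes q h k) {y : G} (hy : sz y = 2 * (h * k) ∨ sz y = q * (2 * k)) : Extremal y := by
  intro v hv hd
  have hmy : sz y ∈ oddSizes q h k := by rcases hy with e | e <;> simp [e, oddSizes]
  rcases hd with hd | hd
  · refine comparable P hmy (hmem v hv) ?_ hd
    intro e
    have hh : ¬ h ∣ q * (2 * k) := P.not_h_dvd (Nat.Coprime.mul_right P.cop_qh.symm P.cop_h2k)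
    rcases hy with e' | e' <;> rw [e'] at e
    · refine P.not_dvd_two_mul (Nat.Coprime.symm (Nat.Coprime.mul_right (Nat.coprime_two_right.2 P.q_odd)
        (Nat.Coprime.mul_right P.cop_qh P.cop_qk))) ⟨2 * h, e⟩
    · exact hh ⟨q * 2, by rw [e]; ring⟩
  · by_cases e : sz v = q * (2 * h)
    · exfalso
      rw [e] at hd
      rcases hy with e' | e' <;> rw [e'] at hd
      all_goals refine P.not_k_dvd (Nat.Coprime.mul_right P.cop_qk.symm P.cop_hk.symm) ?_
      · have hd2 : 2 * k ∣ 2 * (q * h) := (Dvd.intro h (by ring)).trans (hd.trans (by rw [mul_left_comm]))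
        exact Nat.dvd_of_mul_dvd_mul_left two_pos hd2
      · have hd2 : 2 * k ∣ 2 * (q * h) := (Dvd.intro q (by ring)).trans (hd.trans (by rw [mul_left_comm]))
        exact Nat.dvd_of_mul_dvd_mul_left two_pos hd2
    · exact (comparable P (hmem v hv) hmy e hd).symm

theorem extremal_of_sz {y : G} (hy : sz y = 2 * (h * k) ∨ sz y = q * (2 * k)) : Extremal y :=
  extremal_of_mem P H.mem hy

theorem odd_index : (center G).index = q * h * (2 * k) := by
  obtain ⟨xu, hxu⟩ := H.exi (2 * (h * k)) (by simp [oddSizes])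
  obtain ⟨xi, hxi⟩ := H.exi (q * h) (by simp [oddSizes])
  obtain ⟨xB, hxB⟩ := H.exi (q * (2 * k)) (by simp [oddSizes])
  obtain ⟨t, ht⟩ : q * h * (2 * k) ∣ (center G).index := by
    rw [show q * h * (2 * k) = q * (2 * k) * h by ring]
    refine Nat.Coprime.mul_dvd_of_dvd_of_dvd ?_ (hxB ▸ ⟨mz xB, (mz_mul_sz xB).symm.trans (mul_comm _ _)⟩)
      ((dvd_mul_left h q).trans (hxi ▸ ⟨mz xi, (mz_mul_sz xi).symm.trans (mul_comm _ _)⟩))
    exact Nat.Coprime.mul_left P.cop_qh P.cop_h2k.symm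
  suffices ht1 : t = 1 by rw [ht, ht1, mul_one]
  by_contra hne
  obtain ⟨l, hl, hlt⟩ := Nat.exists_prime_and_dvd hne
  have hdvd : l ∣ q * h * (2 * k) :=
    dvd_of_prime_dvd_index H hl (fun n hn => oddSizes_dvd P hn) (ht ▸ hlt.trans (dvd_mul_left _ _))
  have hi : (center G).index = t * (q * h * (2 * k)) := by rw [ht, mul_comm]
  have hnc : ∀ y : G, sz y ∈ oddSizes q h k → y ∉ center G := fun y hy =>
    not_mem_center_of_sz (one_not_mem_oddSizes P) hy
  have hne' : ∀ a b : ℕ, a ∈ oddSizes q h k → b ∈ oddSizes q h k → a ≠ q * (2 * h) → b ≠ a →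
      ¬ b ∣ a := fun a b ha hb he hab hd => hab (comparable P ha hb he hd)
  have hq7 := P.seven_le; have hk4 := P.four; have hh3 := P.three_le_h
  rcases hl.dvd_mul.1 hdvd with hd | hd
  rcases hl.dvd_mul.1 hd with hd | hd
  · obtain ⟨s, hsp, hsd⟩ := Nat.exists_prime_and_dvd (show h ≠ 1 by omega)
    have hm : mz xB = t * h := dvd_mz_of_dvd hxB hi (by ring)
    refine false_of_extremal (extremal_of_sz P H (.inr hxB)) (hnc xB (by simp [hxB, oddSizes])) hl hsp
      ?_ (hm ▸ hlt.trans (dvd_mul_right _ _)) (hm ▸ hsd.trans (dvd_mul_left _ _)) (x := xu) ?_ ?_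
    · rintro rfl
      exact hl.not_dvd_one (P.cop_qh.gcd_eq_one ▸ Nat.dvd_gcd hd hsd)
    · rw [hxu]
      intro hd'
      exact hl.not_dvd_one ((Nat.Coprime.mul_right (Nat.coprime_two_right.2 P.q_odd)
        (Nat.Coprime.mul_right P.cop_qh P.cop_qk)).gcd_eq_one ▸ Nat.dvd_gcd hd hd')
    · rw [hxu, hxB]
      refine hne' _ _ (by simp [oddSizes]) (by simp [oddSizes]) ?_ ?_ <;> intro e
      · exact P.not_k_dvd P.cop_hk.symm ⟨1, by
          have := Nat.eq_of_mul_eq_mul_left (show 0 < q by omega) e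
          omega⟩
      · exact P.not_h_dvd (Nat.Coprime.mul_right P.cop_qh.symm P.cop_h2k) ⟨2 * k, by rw [← e]; ring⟩
  · obtain ⟨s, hsp, hsd⟩ := Nat.exists_prime_and_dvd (show q ≠ 1 by omega)
    have hm : mz xu = t * q := dvd_mz_of_dvd hxu hi (by ring)
    refine false_of_extremal (extremal_of_sz P H (.inl hxu)) (hnc xu (by simp [hxu, oddSizes])) hl hsp
      ?_ (hm ▸ hlt.trans (dvd_mul_right _ _)) (hm ▸ hsd.trans (dvd_mul_left _ _)) (x := xB) ?_ ?_
    · rintro rfl
      exact hl.not_dvd_one (P.cop_qh.gcd_eq_one ▸ Nat.dvd_gcd hsd hd)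
    · rw [hxB]
      intro hd'
      exact hl.not_dvd_one ((Nat.Coprime.mul_right P.cop_qh.symm P.cop_h2k).gcd_eq_one ▸
        Nat.dvd_gcd hd hd')
    · rw [hxu, hxB]
      refine hne' _ _ (by simp [oddSizes]) (by simp [oddSizes]) ?_ ?_ <;> intro e
      · exact P.not_dvd_two_mul (Nat.Coprime.symm (Nat.Coprime.mul_right
          (Nat.coprime_two_right.2 P.q_odd) (Nat.Coprime.mul_right P.cop_qh P.cop_qk))) ⟨2 * h, e⟩
      · exact P.not_h_dvd (Nat.Coprime.mul_right P.cop_qh.symm P.cop_h2k) ⟨2 * k, by rw [e]; ring⟩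
  · obtain ⟨s, hsp, hsd⟩ := Nat.exists_prime_and_dvd (show q ≠ 1 by omega)
    have hm : mz xu = t * q := dvd_mz_of_dvd hxu hi (by ring)
    refine false_of_extremal (extremal_of_sz P H (.inl hxu)) (hnc xu (by simp [hxu, oddSizes])) hl hsp
      ?_ (hm ▸ hlt.trans (dvd_mul_right _ _)) (hm ▸ hsd.trans (dvd_mul_left _ _)) (x := xi) ?_ ?_
    · rintro rfl
      exact hl.not_dvd_one (P.cop_q2k.gcd_eq_one ▸ Nat.dvd_gcd hsd hd)
    · rw [hxi]
      intro hd'
      exact hl.not_dvd_one ((Nat.Coprime.mul_right P.cop_q2k.symm P.cop_h2k.symm).gcd_eq_one ▸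
        Nat.dvd_gcd hd hd')
    · rw [hxu, hxi]
      refine hne' _ _ (by simp [oddSizes]) (by simp [oddSizes]) ?_ ?_ <;> intro e
      · exact P.not_dvd_two_mul (Nat.Coprime.symm (Nat.Coprime.mul_right
          (Nat.coprime_two_right.2 P.q_odd) (Nat.Coprime.mul_right P.cop_qh P.cop_qk))) ⟨2 * h, e⟩
      · exact P.not_k_dvd (Nat.Coprime.mul_right P.cop_qk.symm P.cop_hk.symm) ⟨2 * h, by rw [e]; ring⟩

/-- Only the size `2qh` shares a prime, namely `2`, with its centraliser order. -/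
theorem odd_not_dvd_sz {l : ℕ} (hl : l.Prime) {w : G} (hw : IsQ l w) (hwz : w ∉ center G)
    (h2 : l = 2 → sz w ≠ q * (2 * h)) : ¬ l ∣ sz w := by
  intro hd
  have hi := odd_index P H
  have hm := dvd_mz hl hw (mem_cz.2 (Commute.refl w)) hwz
  rcases H.mem w hwz with e | e | e | e
  · rw [dvd_mz_of_dvd (t := 1) (m := q) e (by rw [hi, one_mul]) (by ring), one_mul] at hm
    rw [e] at hd
    exact hl.not_dvd_one ((Nat.Coprime.mul_right (Nat.coprime_two_right.2 P.q_odd)
      (Nat.Coprime.mul_right P.cop_qh P.cop_qk)).gcd_eq_one ▸ Nat.dvd_gcd hm hd)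
  · rw [dvd_mz_of_dvd (t := 1) (m := 2 * k) e (by rw [hi, one_mul]) (by ring), one_mul] at hm
    rw [e] at hd
    exact hl.not_dvd_one ((Nat.Coprime.mul_right P.cop_q2k.symm P.cop_h2k.symm).gcd_eq_one ▸
      Nat.dvd_gcd hm hd)
  · rw [dvd_mz_of_dvd (t := 1) (m := h) e (by rw [hi, one_mul]) (by ring), one_mul] at hm
    rw [e] at hd
    exact hl.not_dvd_one ((Nat.Coprime.mul_right P.cop_qh.symm P.cop_h2k).gcd_eq_one ▸
      Nat.dvd_gcd hm hd)
  · rw [dvd_mz_of_dvd (t := 1) (m := k) e (by rw [hi, one_mul]) (by ring), one_mul] at hm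
    rw [e, show q * (2 * h) = 2 * (q * h) by ring] at hd
    rcases hl.dvd_mul.1 hd with hd | hd
    · exact h2 ((Nat.prime_dvd_prime_iff_eq hl Nat.prime_two).1 hd) e
    · exact hl.not_dvd_one ((Nat.Coprime.mul_right P.cop_qk.symm P.cop_hk.symm).gcd_eq_one ▸
        Nat.dvd_gcd hm hd)

theorem parts_of_ne {x : G} (hx : sz x ≠ q * (2 * h)) {l : ℕ} (hl : l.Prime) {w : G}
    (hw : w ∈ zpowers x) (hwl : IsQ l w) (hwz : w ∉ center G) : ¬ l ∣ sz w := by
  refine odd_not_dvd_sz P H hl hwl hwz fun _ e => hx ?_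
  have hxz : x ∉ center G := fun hz => hwz (zpowers_le.2 hz hw)
  by_contra hne
  have := comparable P (H.mem x hxz) (H.mem w hwz) hne (sz_dvd_of_le (le_cz_of_mem_zpowers hw))
  exact hne (this ▸ e)

theorem czs_eq_of_ne {x : G} (hx : sz x ≠ q * (2 * h)) : czs x = cz x :=
  le_antisymm (fun _ hn => mem_cz.2 (commute_of_parts hn fun _ hl _ hw hwl hwz =>
    parts_of_ne P H hx hl hw hwl hwz)) (cz_le_czs x)

theorem odd_sz_bar_of_ne {x : G} (hx : sz x ≠ q * (2 * h)) : sz (bar x) = sz x :=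
  sz_bar_of_parts fun _ hl _ hw hwl hwz => parts_of_ne P H hx hl hw hwl hwz

theorem odd_sz_bar {x : G} (hx : x ∉ center G) : sz (bar x) ∈ oddSizes q h k := by
  by_cases hne : sz x = q * (2 * h)
  swap
  · exact (odd_sz_bar_of_ne P H hne).symm ▸ H.mem x hx
  haveI : Fact (Nat.Prime 2) := ⟨Nat.prime_two⟩
  obtain ⟨j, m, hm, hjm⟩ := Nat.exists_eq_pow_mul_and_not_dvd (orderOf_pos x).ne' 2 (by norm_num)
  obtain ⟨i, hi⟩ := relIndex_czs_isPow (q := 2) (j := j) (x := x) fun n hn => by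
    refine commute_of_parts (czs_le_of_mem_zpowers (npow_mem_zpowers x _) hn) fun l hl w hw hwl hwz => ?_
    refine odd_not_dvd_sz P H hl hwl hwz fun e => absurd ?_ hwz
    subst e
    obtain ⟨c, hc⟩ := hwl
    have h1 : orderOf w ∣ 2 ^ c := orderOf_dvd_of_pow_eq_one hc
    have h2 : orderOf w ∣ m := (orderOf_dvd_of_mem_zpowers hw).trans (by
      rw [orderOf_pow, hjm, Nat.gcd_eq_right (dvd_mul_right _ _), Nat.mul_div_cancel_left _ (by positivity)])
    have h3 := Nat.dvd_gcd h1 h2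
    rw [Nat.Coprime.gcd_eq_one ((Nat.prime_two.coprime_iff_not_dvd.2 hm).pow_left c),
      Nat.dvd_one, orderOf_eq_one_iff] at h3
    rw [h3]
    exact one_mem _
  have hmul := sz_bar_mul x
  rw [hi, hne] at hmul
  rcases Nat.eq_zero_or_pos i with rfl | hpos
  · rw [pow_zero, one_mul] at hmul
    rw [hmul]
    simp [oddSizes]
  · rcases Nat.lt_or_ge i 2 with hlt | hge
    · rw [show i = 1 by omega, pow_one, mul_left_comm] at hmul
      rw [Nat.eq_of_mul_eq_mul_left two_pos hmul]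
      simp [oddSizes]
    · exfalso
      have h4 : 2 * 2 ∣ 2 * (q * h) := by
        rw [← mul_left_comm, ← hmul]
        exact Dvd.dvd.mul_right (pow_dvd_pow 2 hge) _
      exact Nat.two_dvd_ne_zero.2 (Nat.odd_iff.1 (P.q_odd.mul P.h_odd))
        (Nat.dvd_of_mul_dvd_mul_left two_pos h4)

end Odd

end Cfsg.Agent.H86.PSLSizes
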