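import Cfsg.Agent.H86.ClassSizes.Basic

/-!
# Counting elements by class sizes and by conjugates
-/

set_option autoImplicit false
set_option linter.style.haveILetI false
set_option linter.unusedSectionVars false

namespace Cfsg.Agent.H86.PSLSizes

open Subgroup
open Cfsg.Agent.H86.ClassSizes

universe u

variable {X : Type u} [Group X] [Finite X]

/-- A conjugation-invariant set whose class sizes are divisible by `d` has size divisible by `d`. -/
theorem dvd_ncard_of_invariant {S : Set X} {d : ℕ} (hinv : ∀ g : X, ∀ x ∈ S, g * x * g⁻¹ ∈ S)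
    (hd : ∀ x ∈ S, d ∣ sz x) : d ∣ S.ncard := by
  classical
  have : Fintype X := Fintype.ofFinite X
  rw [Set.ncard_eq_toFinset_card', Finset.card_eq_sum_card_image ConjClasses.mk]
  refine Finset.dvd_sum fun K hK => ?_
  obtain ⟨x, hx, rfl⟩ := Finset.mem_image.1 hK
  rw [Set.mem_toFinset] at hx
  have h1 : (S.toFinset.filter fun y => ConjClasses.mk y = ConjClasses.mk x).card = sz x := by
    rw [sz, ← Hall.ClassSizeNilpotent.card_carrier_mk, Nat.card_coe_set_eq, ← Set.ncard_coe_finset]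
    congr 1
    ext y
    simp only [Finset.coe_filter, Set.mem_toFinset, Set.mem_ofPred_eq, ConjClasses.mem_carrier_iff_mk_eq,
      and_iff_right_iff_imp]
    intro h
    obtain ⟨c, rfl⟩ := isConj_iff.1 (ConjClasses.mk_eq_mk_iff_isConj.1 h.symm)
    exact hinv c x hx
  exact h1 ▸ hd x hx

/-- The union of the conjugates of a subset with trivial intersections. -/
theorem ncard_conj_union (D : Set X) (N : Subgroup X)
    (hfix : ∀ g ∈ N, ∀ a ∈ D, g * a * g⁻¹ ∈ D)
    (hTI : ∀ g : X, ∀ a ∈ D, g * a * g⁻¹ ∈ D → g ∈ N) :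
    {x : X | ∃ g : X, ∃ a ∈ D, g * a * g⁻¹ = x}.ncard = N.index * D.ncard := by
  let f : (X ⧸ N) × ↥D → {x : X | ∃ g : X, ∃ a ∈ D, g * a * g⁻¹ = x} := fun c =>
    ⟨c.1.out * (c.2 : X) * c.1.out⁻¹, c.1.out, c.2, c.2.2, rfl⟩
  have hf : Function.Bijective f := by
    constructor
    · rintro ⟨c, a⟩ ⟨c', a'⟩ h
      have h' : c.out * (a : X) * c.out⁻¹ = c'.out * (a' : X) * c'.out⁻¹ := congrArg Subtype.val h
      have h2 : c'.out⁻¹ * c.out * (a : X) * (c'.out⁻¹ * c.out)⁻¹ = (a' : X) := by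
        rw [show c'.out⁻¹ * c.out * (a : X) * (c'.out⁻¹ * c.out)⁻¹ =
          c'.out⁻¹ * (c.out * (a : X) * c.out⁻¹) * c'.out by group, h']
        group
      have h3 := hTI _ _ a.2 (by rw [h2]; exact a'.2)
      have hc : c' = c := by
        rw [← c'.out_eq, ← c.out_eq]
        exact QuotientGroup.eq.2 h3
      subst hc
      exact Prod.ext rfl (Subtype.ext (mul_left_cancel (mul_right_cancel h')))
    · rintro ⟨x, g, a, ha, rfl⟩
      obtain ⟨n, hn⟩ := QuotientGroup.mk_out_eq_mul N g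
      refine ⟨⟨(g : X ⧸ N), ⟨(n : X)⁻¹ * a * (n : X)⁻¹⁻¹, hfix _ (N.inv_mem n.2) a ha⟩⟩, Subtype.ext ?_⟩
      show (g : X ⧸ N).out * ((n : X)⁻¹ * a * (n : X)⁻¹⁻¹) * (g : X ⧸ N).out⁻¹ = g * a * g⁻¹
      rw [hn]
      group
  have h := Nat.card_congr (Equiv.ofBijective f hf)
  rw [Nat.card_prod, Nat.card_coe_set_eq, Nat.card_coe_set_eq, ← index_eq_card] at h
  exact h.symm

theorem ncard_diff_one (H : Subgroup X) : ((H : Set X) \ {1}).ncard = Nat.card ↥H - 1 := by
  rw [Set.ncard_sdiff_singleton_of_mem (one_mem H)]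
  rfl

/-- A group acting without fixed points on `U` has order dividing `|U| - 1`. -/
theorem card_dvd_pred {A U : Subgroup X} (hn : A ≤ normalizer (U : Set X))
    (hfpf : ∀ a ∈ A, a ≠ 1 → ∀ u ∈ U, Commute u a → u = 1) :
    Nat.card A ∣ Nat.card U - 1 := by
  classical
  letI : MulAction A {u : X // u ∈ U ∧ u ≠ 1} :=
    { smul := fun a u => ⟨(a : X) * u * (a : X)⁻¹,
        (mem_normalizer_iff.1 (hn a.2) u).1 u.2.1, fun e => u.2.2 (conj_eq_one_iff.1 e)⟩
      one_smul := fun u => Subtype.ext (show ((1 : A) : X) * u * ((1 : A) : X)⁻¹ = u by simp)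
      mul_smul := fun a b u => Subtype.ext (show ((a * b : A) : X) * u * ((a * b : A) : X)⁻¹ =
        (a : X) * ((b : X) * u * (b : X)⁻¹) * (a : X)⁻¹ by push_cast; group) }
  have hfree : ∀ u : {u : X // u ∈ U ∧ u ≠ 1}, MulAction.stabilizer A u = ⊥ := by
    intro u
    refine (eq_bot_iff_forall _).2 fun a ha => ?_
    by_contra ha1
    have e : (a : X) * u * (a : X)⁻¹ = u := congrArg Subtype.val (MulAction.mem_stabilizer_iff.1 ha)
    exact u.2.2 (hfpf _ a.2 (fun e' => ha1 (Subtype.ext e')) _ u.2.1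
      (mul_inv_eq_iff_eq_mul.1 e).symm)
  have hcard := Nat.card_congr (MulAction.selfEquivOrbitsQuotientProd hfree)
  rw [Nat.card_prod] at hcard
  have h1 : Nat.card {u : X // u ∈ U ∧ u ≠ 1} = Nat.card U - 1 := by
    show Nat.card ↥((U : Set X) \ {1}) = _
    rw [Nat.card_coe_set_eq, ncard_diff_one]
  exact h1 ▸ Dvd.intro_left _ hcard.symm

/-- A group which is not perfect has a proper normal subgroup, containing every element of order
prime to some prime. -/
theorem exists_prime_kernel (h : commutator X ≠ ⊤) :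
    ∃ l : ℕ, l.Prime ∧ l ∣ Nat.card X ∧ ∃ N : Subgroup X, N.Normal ∧ N ≠ ⊤ ∧
      ∀ x : X, ¬ l ∣ orderOf x → x ∈ N := by
  have h1 : 1 < Nat.card (Abelianization X) := by
    have := index_eq_card (commutator X)
    rcases Nat.lt_or_ge 1 (commutator X).index with hlt | hge
    · exact this ▸ hlt
    · exfalso
      have h0 : (commutator X).index ≠ 0 := index_ne_zero_of_finite
      exact h (index_eq_one.1 (by omega))
  obtain ⟨l, hl, hdvd⟩ := Nat.exists_prime_and_dvd h1.ne'
  haveI : Fact l.Prime := ⟨hl⟩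
  set P := (powMonoidHom (α := Abelianization X) l).range
  refine ⟨l, hl, hdvd.trans (card_dvd_of_surjective (Abelianization.of) QuotientGroup.mk_surjective),
    P.comap Abelianization.of, inferInstance, fun htop => ?_, fun x hx => ?_⟩
  · obtain ⟨a, ha⟩ := exists_prime_orderOf_dvd_card' l hdvd
    have hsurj : Function.Surjective (powMonoidHom (α := Abelianization X) l) := fun v => by
      obtain ⟨x, rfl⟩ := QuotientGroup.mk_surjective v
      exact MonoidHom.mem_range.1 (mem_comap.1 (htop.ge (mem_top x)))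
    have hinj := Finite.injective_iff_surjective.2 hsurj
    refine ne_one_of_orderOf_prime hl ha (hinj ?_)
    rw [map_one, powMonoidHom_apply, ← ha, pow_orderOf_eq_one]
  · obtain ⟨m, hm⟩ := exists_pow_eq_self_of_coprime (hl.coprime_iff_not_dvd.2 hx)
    rw [mem_comap]
    refine ⟨Abelianization.of (x ^ m), ?_⟩
    rw [powMonoidHom_apply, ← map_pow, ← pow_mul, mul_comm, pow_mul]
    exact congrArg Abelianization.of hm

end Cfsg.Agent.H86.PSLSizes
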