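import Cfsg.Agent.H86.PSLSizes.Radical
import Cfsg.Agent.H86.PSLSizes.Central
import Cfsg.Agent.H86.PrimeGraph.PSLTwoEven

/-!
# `PSL(2, q)` for even `q` from its class sizes and order
-/

set_option autoImplicit false
set_option linter.style.haveILetI false

namespace Cfsg.Agent.H86.PSLSizes

open Subgroup
open Cfsg.Agent.H86.ClassSizes

universe u

variable {X : Type u} [Group X] [Finite X]

theorem psl_of_even_sizes {F : Type*} [Field F] [Fintype F] (hq : Even (Fintype.card F))
    (h4 : 4 ≤ Fintype.card F)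
    (hcard : Nat.card X = Fintype.card F * (Fintype.card F ^ 2 - 1))
    (hS : ∀ x : X, x ≠ 1 → sz x ∈ evenSizes (Fintype.card F)) :
    Nonempty (X ≃* Matrix.ProjectiveSpecialLinearGroup (Fin 2) F) := by
  set q := Fintype.card F with hqdef
  obtain ⟨c1, c2, c3, hs, hN⟩ := even_facts hq h4
  rw [hN] at hcard
  have hcz : ∀ x : X, x ≠ 1 → Nat.card ↥(cz x) < sz x := by
    intro x hx
    have h := card_cz_mul_sz x
    rw [hcard] at h
    rcases hS x hx with e | e | e <;> rw [e] at h ⊢
    · rw [show q * (q + 1) * (q - 1) = (q + 1) * (q * (q - 1)) by ring] at h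
      rw [Nat.eq_of_mul_eq_mul_right (Nat.mul_pos (by omega) (by omega)) h]
      calc q + 1 < q * 2 := by omega
        _ ≤ q * (q - 1) := Nat.mul_le_mul_left q (by omega)
    · rw [hs, show q * (q + 1) * (q - 1) = q * ((q + 1) * (q - 1)) by ring] at h
      rw [hs, Nat.eq_of_mul_eq_mul_right (Nat.mul_pos (by omega) (by omega)) h]
      calc q < (q + 1) * 1 := by omega
        _ ≤ (q + 1) * (q - 1) := Nat.mul_le_mul_left _ (by omega)
    · rw [show q * (q + 1) * (q - 1) = (q - 1) * (q * (q + 1)) by ring] at h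
      rw [Nat.eq_of_mul_eq_mul_right (Nat.mul_pos (by omega) (by omega)) h]
      calc q - 1 < q * 1 := by omega
        _ ≤ q * (q + 1) := Nat.mul_le_mul_left _ (by omega)
  have : Nontrivial X := Finite.one_lt_card_iff_nontrivial.1 (by
    rw [hcard]
    exact Nat.one_lt_mul_iff.2 ⟨Nat.mul_pos (by omega) (by omega), by omega, .inr (by omega)⟩)
  have hns := not_isSolvable_of_rad (rad_eq_bot_of_small hcz)
  have hF : Free X := fun x y hx hy hle => by
    refine cz_eq_of_le hle ?_
    have hd := sz_dvd_of_le hle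
    rcases hS x hx with e | e | e <;> rcases hS y hy with e' | e' | e' <;> rw [e, e'] at hd ⊢
    all_goals exfalso
    all_goals rw [hs] at *
    all_goals first
      | (have := c2.eq_one_of_dvd (c1.dvd_of_dvd_mul_right ((dvd_mul_right q _).trans hd)); omega)
      | (have := c2.symm.eq_one_of_dvd (c3.dvd_of_dvd_mul_right ((dvd_mul_right (q + 1) _).trans hd)); omega)
      | (have := c3.symm.eq_one_of_dvd (c1.symm.dvd_of_dvd_mul_left ((dvd_mul_left (q - 1) _).trans hd)); omega)
      | (have := c3.eq_one_of_dvd (c2.symm.dvd_of_dvd_mul_left ((dvd_mul_left (q + 1) _).trans hd)); omega)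
  obtain ⟨n, hn, ⟨e⟩⟩ := hF.exists_psl hns
  let _ := Fintype.ofFinite (GaloisField 2 n)
  have hK : Fintype.card (GaloisField 2 n) = 2 ^ n := by
    rw [← Nat.card_eq_fintype_card, GaloisField.card 2 n (by omega)]
  have hc := (Nat.card_congr e.toEquiv).symm.trans hcard
  rw [PrimeGraph.card_psl_two_even (by omega) hK, ← hN, mul_comm 2 n, pow_mul] at hc
  obtain ⟨f⟩ := nonempty_psl_congr (F := GaloisField 2 n) (K := F)
    (hK.trans (eq_of_order_eq hc (Nat.le_self_pow (by omega) 2)))
  exact ⟨e.trans f⟩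

end Cfsg.Agent.H86.PSLSizes
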