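import Cfsg.Agent.H86.ClassSizes.Main
import Cfsg.Agent.H27.PermFamily

/-!
# Small centralisers
-/

set_option autoImplicit false
set_option linter.style.haveILetI false
set_option linter.unusedSectionVars false

namespace Cfsg.Agent.H86.PSLSizes

open Subgroup
open Cfsg.Agent.H86.ClassSizes

universe u

variable {X : Type u} [Group X] [Finite X]

theorem card_cz_mul_sz (x : X) : Nat.card ↥(cz x) * sz x = Nat.card X := card_mul_index _

/-- If every centraliser is smaller than the corresponding class, the solvable radical is trivial. -/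
theorem rad_eq_bot_of_small (h : ∀ x : X, x ≠ 1 → Nat.card ↥(cz x) < sz x) : Rad X = ⊥ := by
  by_contra hne
  obtain ⟨r, hr, hr'⟩ := exists_core_ne_bot hne
  haveI : Fact r.Prime := ⟨hr⟩
  haveI : (Cfsg.pCore r X).Normal := sSup_normal _ fun _ h => h.1
  obtain ⟨S⟩ := (inferInstance : Nonempty (Sylow r X))
  have hU := le_sylow_of_normal (Components.isPGroup_pCore (G := X) r) S
  obtain ⟨z, hzU, -, hz, hzc⟩ := exists_central_mem S (Cfsg.pCore r X) (by rwa [inf_eq_left.2 hU])
  have hz1 := ne_one_of_orderOf_prime hr hz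
  have hle : (ConjClasses.mk z).carrier ⊆ (Cfsg.pCore r X : Set X) := fun w hw => by
    obtain ⟨g, rfl⟩ := isConj_iff.1
      (ConjClasses.mk_eq_mk_iff_isConj.1 (ConjClasses.mem_carrier_iff_mk_eq.1 hw).symm)
    exact Subgroup.Normal.conj_mem inferInstance _ hzU g
  have h1 : sz z ≤ Nat.card ↥(Cfsg.pCore r X) := by
    rw [sz, ← Hall.ClassSizeNilpotent.card_carrier_mk]
    exact Nat.card_mono (Set.toFinite _) hle
  have h2 : Nat.card ↥(Cfsg.pCore r X) ≤ Nat.card ↥(cz z) :=
    Nat.card_mono (Set.toFinite _) (hU.trans hzc)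
  exact absurd (h z hz1) (not_lt.2 (h1.trans h2))

theorem not_isSolvable_of_rad [Nontrivial X] (h : Rad X = ⊥) : ¬ Group.IsSolvable X := fun hs => by
  haveI := hs
  have := le_rad (N := (⊤ : Subgroup X)) inferInstance inferInstance
  rw [h, le_bot_iff] at this
  exact top_ne_bot this

/-- Projective special linear groups over fields of the same size are isomorphic. -/
theorem nonempty_psl_congr {F K : Type*} [Field F] [Fintype F] [Field K] [Fintype K]
    (h : Fintype.card F = Fintype.card K) :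
    Nonempty (Matrix.ProjectiveSpecialLinearGroup (Fin 2) F ≃*
      Matrix.ProjectiveSpecialLinearGroup (Fin 2) K) :=
  ⟨H27.PermFamily.pslCongr (FiniteField.ringEquivOfCardEq h)⟩

theorem eq_of_order_eq {a b : ℕ} (h : a * (a ^ 2 - 1) = b * (b ^ 2 - 1)) (ha : 2 ≤ a) : a = b := by
  rcases lt_trichotomy a b with hlt | he | hlt
  · exfalso
    have h1 : a ^ 2 < b ^ 2 := Nat.pow_lt_pow_left hlt (by norm_num)
    have h2 : 1 ≤ a ^ 2 := Nat.one_le_pow _ _ (by omega)
    exact absurd h (Nat.mul_lt_mul_of_lt_of_lt hlt (by omega)).ne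
  · exact he
  · exfalso
    have h1 : b ^ 2 < a ^ 2 := Nat.pow_lt_pow_left hlt (by norm_num)
    have h2 : 2 ^ 2 ≤ a ^ 2 := Nat.pow_le_pow_left ha 2
    exact absurd h.symm (Nat.mul_lt_mul_of_lt_of_lt hlt (by omega)).ne

end Cfsg.Agent.H86.PSLSizes
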