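import Cfsg.Agent.H86.PSLSizes.PSLFacts
import Cfsg.Agent.H86.PSLSizes.Central
import Cfsg.Agent.H86.PSLSizes.Radical

/-!
# Splitting off the centre
-/

set_option autoImplicit false
set_option linter.style.haveILetI false
set_option linter.unusedSectionVars false

namespace Cfsg.Agent.H86.PSLSizes

open Subgroup
open Cfsg.Agent.Hall.TwoSizes (IsQ)
open Cfsg.Agent.H86.ClassSizes

universe u

variable {G : Type u} [Group G] [Finite G] {F : Type*} [Field F] [Fintype F]

local notation "P2" => Matrix.ProjectiveSpecialLinearGroup (Fin 2) F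

/-- A central commutator lying in a Sylow subgroup lies in its derived subgroup. -/
theorem mem_derived_of_central {l : ℕ} [Fact l.Prime] (S : Sylow l G) {z : G}
    (hz : z ∈ (S : Subgroup G)) (hzc : z ∈ center G) (hzd : z ∈ commutator G) :
    z ∈ ⁅(S : Subgroup G), (S : Subgroup G)⁆ := by
  have key : ∀ (j : ℕ) (g₀ : G), g₀⁻¹ * z ^ j * g₀ ∈ (S : Subgroup G) → g₀⁻¹ * z ^ j * g₀ = z ^ j := by
    intro j g₀ _
    rw [mul_assoc, ← mem_center_iff.1 (pow_mem hzc j) g₀, inv_mul_cancel_left]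
  have h1 := MonoidHom.transfer_eq_pow (Abelianization.of (G := ↥(S : Subgroup G))) z key
  have h2 : MonoidHom.transfer (Abelianization.of (G := ↥(S : Subgroup G))) z = 1 :=
    Abelianization.commutator_subset_ker _ hzd
  rw [h2] at h1
  have h3 : (⟨z, hz⟩ : ↥(S : Subgroup G)) ^ (S : Subgroup G).index ∈ commutator ↥(S : Subgroup G) := by
    rw [← Abelianization.ker_of, MonoidHom.mem_ker]
    exact (congrArg Abelianization.of (Subtype.ext (by simp))).trans h1.symm
  obtain ⟨i, hi⟩ := IsPGroup.iff_card.1 S.2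
  have hco : (orderOf (⟨z, hz⟩ : ↥(S : Subgroup G))).Coprime (S : Subgroup G).index :=
    Nat.Coprime.coprime_dvd_left (orderOf_dvd_natCard _) S.card_coprime_index
  obtain ⟨m, hm⟩ := exists_pow_eq_self_of_coprime hco.symm
  rw [← map_subtype_commutator]
  exact ⟨⟨z, hz⟩, hm ▸ pow_mem h3 m, rfl⟩

/-- It is enough that every prime has a Sylow subgroup whose derived subgroup misses the centre. -/
theorem commutator_inf_center_of_sylow
    (h : ∀ l : ℕ, l.Prime → ∃ S : Sylow l G, ⁅(S : Subgroup G), (S : Subgroup G)⁆ ⊓ center G = ⊥) :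
    commutator G ⊓ center G = ⊥ := by
  by_contra hne
  obtain ⟨⟨z, hz⟩, hz1⟩ := ne_bot_iff_exists_ne_one.1 hne
  rw [Ne, mk_eq_one] at hz1
  obtain ⟨hzd, hzc⟩ := hz
  obtain ⟨l, hl, w, hw, hwl⟩ := exists_prime_pow_power hz1
  haveI : Fact l.Prime := ⟨hl⟩
  obtain ⟨S, hS⟩ := h l hl
  have hwc : w ∈ center G := zpowers_le.2 hzc hw
  have hwd : w ∈ commutator G := zpowers_le.2 hzd hw
  obtain ⟨g, hg⟩ := exists_conj_mem_sylow (isQ_of_orderOf hwl) S
  rw [(mem_center_iff.1 hwc g), mul_inv_cancel_right] at hg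
  refine ne_one_of_orderOf_prime hl hwl (mem_bot.1 (hS.le ⟨?_, hwc⟩))
  exact mem_derived_of_central S hg hwc hwd

/-- The isomorphism, as a map from the group. -/
abbrev proj (e : G ⧸ center G ≃* P2) : G →* P2 :=
  e.toMonoidHom.comp (QuotientGroup.mk' (center G))

theorem proj_ker (e : G ⧸ center G ≃* P2) {g : G} : proj e g = 1 ↔ g ∈ center G := by
  rw [MonoidHom.comp_apply, MulEquiv.coe_toMonoidHom, MulEquiv.map_eq_one_iff,
    QuotientGroup.mk'_apply, QuotientGroup.eq_one_iff]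

theorem proj_commute_iff {e : G ⧸ center G ≃* P2} {a b : G} :
    Commute (proj e a) (proj e b) ↔ a ∈ czs b := by
  rw [mem_comap, mem_cz]
  exact ⟨fun h => by simpa using h.map e.symm.toMonoidHom, fun h => h.map e.toMonoidHom⟩

theorem sz_proj (e : G ⧸ center G ≃* P2) (g : G) : sz (proj e g) = sz (bar g) := by
  have h : cz (proj e g) = (cz (bar g)).map e.toMonoidHom := by
    ext y
    rw [mem_map_equiv, mem_cz, mem_cz]
    refine ⟨fun h => by simpa using h.map e.symm.toMonoidHom, fun h => ?_⟩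
    simpa using h.map e.toMonoidHom
  rw [sz, sz, h]
  exact index_map_equiv _ e

/-- A Sylow subgroup is abelian if its image is and the class sizes are prime to `l`. -/
theorem sylow_abelian (e : G ⧸ center G ≃* P2) {l : ℕ} [hl : Fact l.Prime]
    (hsz : ∀ w : G, IsQ l w → w ∉ center G → ¬ l ∣ sz w) (h2 : (2 : F) = 0 ∨ l ≠ 2) (S : Sylow l G) :
    ⁅(S : Subgroup G), (S : Subgroup G)⁆ = ⊥ := by
  rw [commutator_eq_bot_iff_le_centralizer]
  by_cases hle : (S : Subgroup G) ≤ center G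
  · exact fun a ha => mem_centralizer_iff.2 fun b _ => mem_center_iff.1 (hle ha) b
  have hsurj : Function.Surjective (proj e) := e.surjective.comp (QuotientGroup.mk'_surjective _)
  set T := S.mapSurjective hsurj with hT
  have hmemT : ∀ a ∈ (S : Subgroup G), proj e a ∈ (T : Subgroup P2) := fun a ha =>
    mem_map_of_mem _ ha
  have hdvd : l ∣ Nat.card P2 := by
    obtain ⟨a, ha, haz⟩ := SetLike.not_le_iff_exists.1 hle
    obtain ⟨i, hi⟩ := IsPGroup.iff_orderOf.1 T.2 ⟨proj e a, hmemT a ha⟩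
    rw [orderOf_mk] at hi
    refine (dvd_trans ?_ (orderOf_dvd_natCard (proj e a)))
    rw [hi]
    refine dvd_pow_self l fun h0 => haz ((proj_ker e).1 (orderOf_eq_one_iff.1 ?_))
    rw [hi, h0, pow_zero]
  obtain ⟨z, -, hz, hzc⟩ := exists_central T hdvd
  have hz1 := ne_one_of_orderOf_prime hl.out hz
  have hzz : z * z ≠ 1 ∨ (2 : F) = 0 := h2.symm.imp_left fun hl2 hsq => hl2
    ((Nat.prime_dvd_prime_iff_eq hl.out Nat.prime_two).1
      (hz ▸ orderOf_dvd_of_pow_eq_one (by rw [sq]; exact hsq)))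
  intro a ha
  refine mem_centralizer_iff.2 fun b hb => ?_
  have hc := proj_commute_iff.1
    (commute_of_mem_centralizer hz1 hzz (hzc (hmemT a ha)) (hzc (hmemT b hb)))
  by_cases hbz : b ∈ center G
  · exact (mem_center_iff.1 hbz a).symm
  have hbq : IsQ l b := IsQ.of_mem S.2 hb
  rw [czs_eq_of_ndvd hl.out hbq (hsz b hbq hbz), mem_cz] at hc
  exact hc.eq.symm

/-- The Sylow `2`-subgroup for odd `q`, given an involution of the quotient with exact centraliser. -/
theorem sylow_two_derived (e : G ⧸ center G ≃* P2) (h2 : (2 : F) ≠ 0) {y : G}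
    (hy : y ∉ center G) (hy2 : proj e y * proj e y = 1) (hodd : ¬ 2 ∣ sz y) :
    ∃ S : Sylow 2 G, ⁅(S : Subgroup G), (S : Subgroup G)⁆ ⊓ center G = ⊥ := by
  haveI : Fact (Nat.Prime 2) := ⟨Nat.prime_two⟩
  obtain ⟨S, hS⟩ := exists_sylow_le_cz hodd
  refine ⟨S, ?_⟩
  have hy1 : proj e y ≠ 1 := fun h => hy ((proj_ker e).1 h)
  obtain ⟨M₀, hxM, hcyc, -, hidx, hinv⟩ := exists_cyclic_inverted h2 hy1 hy2
  set M := M₀.comap (proj e) with hM
  have hMc : ∀ a ∈ M, ∀ b ∈ M, Commute a b := by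
    haveI := hcyc
    obtain ⟨⟨γ, hγ⟩, hgen⟩ := IsCyclic.exists_generator (α := ↥M₀)
    obtain ⟨c, rfl⟩ := (show Function.Surjective (proj e) from
      e.surjective.comp (QuotientGroup.mk'_surjective _)) γ
    have hdec : ∀ a ∈ M, ∃ i : ℤ, ∃ z ∈ center G, a = c ^ i * z := by
      intro a ha
      obtain ⟨i, hi⟩ := mem_zpowers_iff.1 (hgen ⟨proj e a, ha⟩)
      refine ⟨i, (c ^ i)⁻¹ * a, (proj_ker e).1 ?_, by group⟩
      have h' : (proj e c) ^ i = proj e a := by simpa using congrArg Subtype.val hi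
      rw [map_mul, map_inv, map_zpow, h', inv_mul_cancel]
    intro a ha b hb
    obtain ⟨i, z, hz, rfl⟩ := hdec a ha
    obtain ⟨j, z', hz', rfl⟩ := hdec b hb
    have hci : ∀ (g : G), Commute z g := fun g => (mem_center_iff.1 hz g).symm
    have hcj : ∀ (g : G), Commute z' g := fun g => (mem_center_iff.1 hz' g).symm
    exact (((Commute.refl c).zpow_zpow i j).mul_right (hcj _).symm).mul_left (hci _)
  have hCS : ∀ s ∈ (S : Subgroup G), proj e s ∈ cz (proj e y) := fun s hs =>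
    mem_cz.2 ((mem_cz.1 (hS hs)).map (proj e))
  by_cases hle : (S : Subgroup G) ≤ M
  · rw [commutator_eq_bot_iff_le_centralizer.2, bot_inf_eq]
    exact fun a ha => mem_centralizer_iff.2 fun b hb => (hMc b (hle hb) a (hle ha)).eq
  obtain ⟨s, hs, hsM⟩ := SetLike.not_le_iff_exists.1 hle
  set A := (S : Subgroup G) ⊓ M with hA
  have hinvA : ∀ t ∈ (S : Subgroup G), t ∉ M → ∀ a ∈ M, proj e (t * a * t⁻¹) = (proj e a)⁻¹ :=
    fun t ht htM a ha => by
      rw [map_mul, map_mul, map_inv]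
      exact hinv _ (hCS t ht) htM _ ha
  have hconjA : ∀ a ∈ A, s * a * s⁻¹ ∈ A := fun a ha =>
    ⟨mul_mem (mul_mem hs ha.1) ((S : Subgroup G).inv_mem hs), mem_comap.2 (by
      rw [hinvA s hs hsM a ha.2]; exact M₀.inv_mem ha.2)⟩
  -- the commutator with `s`
  let φ : ↥A →* G :=
    { toFun := fun a => s * (a : G) * s⁻¹ * (a : G)⁻¹
      map_one' := by simp
      map_mul' := fun a b => by
        show s * ((a : G) * (b : G)) * s⁻¹ * ((a : G) * (b : G))⁻¹ = _
        have hc : Commute (a : G)⁻¹ (s * (b : G) * s⁻¹ * (b : G)⁻¹) :=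
          hMc _ (inv_mem a.2.2) _ (mul_mem (hconjA _ b.2).2 (inv_mem b.2.2))
        rw [show s * ((a : G) * (b : G)) * s⁻¹ * ((a : G) * (b : G))⁻¹ =
          s * (a : G) * s⁻¹ * ((s * (b : G) * s⁻¹ * (b : G)⁻¹) * (a : G)⁻¹) by group, ← hc.eq]
        group }
  have hφ : ∀ a : ↥A, φ a = s * (a : G) * s⁻¹ * (a : G)⁻¹ := fun _ => rfl
  set K := φ.range with hK
  have hcover : ∀ g ∈ (S : Subgroup G), (g ∈ A) ∨ ∃ a ∈ A, g = s * a := by
    intro g hg
    by_cases hgM : g ∈ M
    · exact .inl ⟨hg, hgM⟩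
    refine .inr ⟨s⁻¹ * g, ⟨mul_mem ((S : Subgroup G).inv_mem hs) hg, mem_comap.2 ?_⟩, by group⟩
    rw [map_mul, map_inv]
    refine hidx _ (inv_mem (hCS s hs)) _ (hCS g hg) (fun hi => hsM ?_) hgM
    exact mem_comap.2 (inv_mem_iff.1 hi)
  have hKnorm : ∀ a ∈ K, s * a * s⁻¹ ∈ K := by
    rintro _ ⟨a, rfl⟩
    refine ⟨⟨_, hconjA _ a.2⟩, ?_⟩
    rw [hφ, hφ]
    group
  have hle' : ⁅(S : Subgroup G), (S : Subgroup G)⁆ ≤ K := by
    rw [commutator_le]
    intro g hg g' hg'
    rw [commutatorElement_def]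
    rcases hcover g hg with ha | ⟨a, ha, rfl⟩ <;> rcases hcover g' hg' with hb | ⟨b, hb, rfl⟩
    · rw [(hMc g ha.2 g' hb.2).eq, show g' * g * g⁻¹ * g'⁻¹ = 1 by group]
      exact one_mem _
    · refine ⟨⟨g⁻¹, inv_mem ha⟩, ?_⟩
      rw [hφ]
      have hcg : Commute (s * g⁻¹ * s⁻¹) g := hMc _ (hconjA _ (inv_mem ha)).2 _ ha.2
      rw [show g * (s * b) * g⁻¹ * (s * b)⁻¹ = g * (s * (b * g⁻¹ * b⁻¹) * s⁻¹) by group,
        (hMc b hb.2 g⁻¹ (inv_mem ha.2)).eq, mul_inv_cancel_right, inv_inv, hcg.eq]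
    · refine ⟨⟨g', hb⟩, ?_⟩
      rw [hφ]
      rw [show s * a * g' * (s * a)⁻¹ * g'⁻¹ = s * (a * g' * a⁻¹) * s⁻¹ * g'⁻¹ by group,
        (hMc a ha.2 g' hb.2).eq, mul_inv_cancel_right]
    · have hm : s * a * (s * b) * (s * a)⁻¹ * (s * b)⁻¹ =
          s * (a * (s * (b * a⁻¹) * s⁻¹) * b⁻¹) * s⁻¹ := by group
      rw [hm]
      refine hKnorm _ ⟨⟨b * a⁻¹, mul_mem hb (inv_mem ha)⟩, ?_⟩
      rw [hφ]
      have hcm : Commute a (s * (b * a⁻¹) * s⁻¹) :=
        hMc _ ha.2 _ (hconjA _ (mul_mem hb (inv_mem ha))).2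
      rw [hcm.eq, mul_inv_rev, inv_inv]
      group
  refine le_bot_iff.1 fun z hz => ?_
  obtain ⟨a, rfl⟩ := hle' hz.1
  rw [mem_bot, hφ]
  have h1 : proj e (a : G) * proj e (a : G) = 1 := by
    have h0 := (proj_ker e).2 hz.2
    rw [hφ, map_mul, map_inv, hinvA s hs hsM _ a.2.2, ← mul_inv_rev] at h0
    exact inv_eq_one.1 h0
  -- the involution of the cyclic group
  have h3 : proj e (a : G) = 1 ∨ proj e (a : G) = proj e y := by
    classical
    haveI := hcyc
    have : Fintype ↥M₀ := Fintype.ofFinite _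
    by_contra hcon
    push Not at hcon
    have hcard := IsCyclic.card_pow_eq_one_le (α := ↥M₀) two_pos
    have : ({1, ⟨proj e y, hxM⟩, ⟨proj e (a : G), a.2.2⟩} : Finset ↥M₀) ⊆
        Finset.univ.filter fun u : ↥M₀ => u ^ 2 = 1 := by
      intro u hu
      simp only [Finset.mem_insert, Finset.mem_singleton] at hu
      refine Finset.mem_filter.2 ⟨Finset.mem_univ _, Subtype.ext ?_⟩
      rw [SubmonoidClass.coe_pow, sq]
      rcases hu with rfl | rfl | rfl
      exacts [one_mul 1, hy2, h1]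
    have h3' := (Finset.card_le_card this).trans hcard
    rw [Finset.card_insert_of_notMem, Finset.card_pair] at h3'
    · omega
    · exact fun h => hcon.2 (congrArg Subtype.val h).symm
    · simp only [Finset.mem_insert, Finset.mem_singleton, not_or]
      exact ⟨fun h => hy1 (congrArg Subtype.val h).symm, fun h => hcon.1 (congrArg Subtype.val h).symm⟩
  have hca : Commute s (a : G) := by
    rcases h3 with h | h
    · exact mem_center_iff.1 ((proj_ker e).1 h) s
    · have hd : y⁻¹ * (a : G) ∈ center G := (proj_ker e).1 (by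
        rw [map_mul, map_inv, h, inv_mul_cancel])
      have := (mem_cz.1 (hS hs)).mul_right (show Commute s (y⁻¹ * (a : G)) from mem_center_iff.1 hd s)
      rwa [mul_inv_cancel_left] at this
  rw [hca.eq, mul_inv_cancel_right, mul_inv_cancel]

/-- A group whose central quotient is a perfect group splits if the centre misses the derived group. -/
theorem exists_split (hperf : commutator (G ⧸ center G) = ⊤)
    (h : commutator G ⊓ center G = ⊥) (e : G ⧸ center G ≃* P2) :
    ∃ N A : Subgroup G, N.Normal ∧ A ≤ center G ∧ N ⊓ A = ⊥ ∧ N ⊔ A = ⊤ ∧ Nonempty (N ≃* P2) := by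
  have hsup : commutator G ⊔ center G = ⊤ := by
    have h1 : (commutator G).map (QuotientGroup.mk' (center G)) = ⊤ := by
      rw [commutator_def, map_commutator, map_top_of_surjective _ (QuotientGroup.mk'_surjective _),
        ← commutator_def, hperf]
    have h2 := congrArg (comap (QuotientGroup.mk' (center G))) h1
    rwa [comap_map_eq, QuotientGroup.ker_mk', comap_top] at h2
  refine ⟨commutator G, center G, inferInstance, le_rfl, h, hsup, ?_⟩
  refine ⟨(MulEquiv.ofBijective ((proj e).comp (commutator G).subtype) ⟨?_, fun v => ?_⟩)⟩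
  · rw [injective_iff_map_eq_one]
    intro a ha
    exact Subtype.ext (mem_bot.1 (h.le ⟨a.2, (proj_ker e).1 ha⟩))
  · obtain ⟨g, rfl⟩ := (show Function.Surjective (proj e) from
      e.surjective.comp (QuotientGroup.mk'_surjective _)) v
    obtain ⟨n, hn, z, hz, rfl⟩ := mem_sup_of_normal_left.1 (hsup.ge (mem_top g))
    exact ⟨⟨n, hn⟩, by simp [map_mul, (proj_ker e).2 hz]⟩

end Cfsg.Agent.H86.PSLSizes
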