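import Cfsg.Agent.H86.PSLSizes.OddDihedral
import Cfsg.Agent.H86.PSLSizes.Even
import Cfsg.Agent.H86.PSLSizes.Split
import Cfsg.Agent.Linear.Simple
import Cfsg.Agent.S2507
import Cfsg.Agent.S2508

/-!
# Groups with the class sizes of `PSL(2, q)`
-/

set_option autoImplicit false
set_option linter.style.haveILetI false
set_option linter.unusedSectionVars false

namespace Cfsg.Agent.H86.PSLSizes

open Subgroup
open Cfsg.Agent.Hall.TwoSizes (IsQ)
open Cfsg.Agent.H86.ClassSizes

universe u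

variable {G : Type u} [Group G] [Finite G] {F : Type*} [Field F] [Fintype F]

local notation "P2" => Matrix.ProjectiveSpecialLinearGroup (Fin 2) F

theorem oddX_quotient {q h k : ℕ} (P : OddParams q h k) (H : HasSizes G (oddSizes q h k)) :
    OddX (G ⧸ center G) q h k where
  par := P
  card := by rw [← index_eq_card]; exact odd_index P H
  sizes := fun v hv => by
    obtain ⟨x, rfl⟩ := QuotientGroup.mk'_surjective (center G) v
    exact odd_sz_bar P H fun hx => hv ((QuotientGroup.eq_one_iff x).2 hx)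

theorem exists_odd_params (hodd : ¬ 2 ∣ Fintype.card F) (h7 : 7 ≤ Fintype.card F)
    (h : Set.range (fun g : G => sz g) = Set.range (fun g : P2 => sz g)) :
    ∃ a b : ℕ, OddParams (Fintype.card F) a b ∧ HasSizes G (oddSizes (Fintype.card F) a b) := by
  obtain ⟨a, b, P, hmod1, hmod3⟩ := OddParams.exists_params hodd h7
  obtain ⟨s1, s3⟩ := P.size_set
  obtain ⟨r1, r3⟩ := S2508.result (F := F) hodd h7
  refine ⟨a, b, P, hasSizes_of_range (h.trans ?_)⟩
  rcases (by omega : Fintype.card F % 4 = 1 ∨ Fintype.card F % 4 = 3) with e | e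
  · exact (r1 e).trans (s1 e (hmod1 e).1 (hmod1 e).2)
  · exact (r3 e).trans (s3 e (hmod3 e).1 (hmod3 e).2)

theorem perfect_psl (h4 : 4 ≤ Fintype.card F) (e : G ⧸ center G ≃* P2) :
    commutator (G ⧸ center G) = ⊤ := by
  have h1 := Linear.commutator_PSL_eq_top (F := F) (ι := Fin 2)
    (Or.inr (Linear.exists_sq_ne_one_of_card (by rwa [Nat.card_eq_fintype_card])))
  have h2 := congrArg (Subgroup.map e.symm.toMonoidHom) h1
  rwa [commutator_def, map_commutator, map_top_of_surjective _ e.symm.surjective, ← commutator_def] at h2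

theorem even_case (hev : 2 ∣ Fintype.card F) (h2 : 2 < Fintype.card F)
    (h : Set.range (fun g : G => sz g) = Set.range (fun g : P2 => sz g)) :
    ∃ N A : Subgroup G, N.Normal ∧ A ≤ center G ∧ N ⊓ A = ⊥ ∧ N ⊔ A = ⊤ ∧ Nonempty (N ≃* P2) := by
  set q := Fintype.card F with hq
  have hq2 : Even q := even_iff_two_dvd.2 hev
  have h4 : 4 ≤ q := by omega
  have H : HasSizes G (evenSizes q) := hasSizes_of_range (h.trans (S2507.result (F := F) hev h4))
  have hS : ∀ v : G ⧸ center G, v ≠ 1 → sz v ∈ evenSizes q := fun v hv => by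
    obtain ⟨x, rfl⟩ := QuotientGroup.mk'_surjective (center G) v
    exact (even_sz_bar hq2 h4 H x).symm ▸ H.mem x fun hx => hv ((QuotientGroup.eq_one_iff x).2 hx)
  obtain ⟨e⟩ := psl_of_even_sizes (X := G ⧸ center G) hq2 h4
    (by rw [← index_eq_card]; exact even_index hq2 h4 H) hS
  have h20 : (2 : F) = 0 := by
    obtain ⟨p, hp⟩ := CharP.exists F
    haveI : Fact p.Prime := ⟨CharP.char_is_prime F p⟩
    obtain ⟨n, hp', hn⟩ := FiniteField.card F p
    have h2p : 2 = p := (Nat.prime_dvd_prime_iff_eq Nat.prime_two hp').1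
      (Nat.prime_two.dvd_of_dvd_pow (hev.trans (dvd_of_eq (hq.trans hn))))
    subst h2p
    exact CharTwo.two_eq_zero
  refine exists_split (perfect_psl h4 e) (commutator_inf_center_of_sylow fun l hl => ?_) e
  haveI : Fact l.Prime := ⟨hl⟩
  obtain ⟨S⟩ := (inferInstance : Nonempty (Sylow l G))
  refine ⟨S, ?_⟩
  rw [sylow_abelian e (fun w hw hwz => even_not_dvd_sz hq2 h4 H hl hw hwz) (.inl h20) S, bot_inf_eq]

theorem two_ne_zero_of_odd (hodd : ¬ 2 ∣ Fintype.card F) : (2 : F) ≠ 0 := by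
  intro h20
  haveI : CharP F 2 := CharTwo.of_one_ne_zero_of_two_eq_zero one_ne_zero h20
  obtain ⟨n, -, hn⟩ := FiniteField.card F 2
  exact hodd (hn ▸ dvd_pow_self 2 n.pos.ne')

/-- The only elements of `PSL(2, q)` with class size `q (q ± 1) / 2` are the involutions. -/
theorem mul_self_eq_one_of_sz {q a b : ℕ} (P : OddParams q a b) (hqF : Fintype.card F = q)
    (h2 : (2 : F) ≠ 0) {x : P2} (hx : x ≠ 1) (hsz : sz x = q * a) : x * x = 1 := by
  obtain ⟨X, rfl⟩ := exists_lift x
  have hns := H55.not_scalar_of_ne_one hx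
  by_contra hxx
  have htr : (X : Matrix (Fin 2) (Fin 2) F).trace ≠ 0 := fun h0 => hxx (by
    rw [← sq]
    exact orderOf_dvd_iff_pow_eq_one.1 (H55.trace_zero_order h0))
  have hq7 := P.seven_le
  have hsz' : H55.clsSize X = q * a := hsz
  by_cases h4 : (X : Matrix (Fin 2) (Fin 2) F).trace ^ 2 = 4
  · have h1 := (H55.clsSize_unipotent hns h4).2 h2
    rw [hsz', hqF] at h1
    have h3 : q ∣ q ^ 2 - 1 := h1 ▸ Dvd.intro (a * 2) (mul_assoc _ _ _).symm
    have h5 := Nat.dvd_sub (dvd_pow_self q two_ne_zero) h3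
    rw [show q ^ 2 - (q ^ 2 - 1) = 1 by have := Nat.one_le_pow 2 q (by omega); omega, Nat.dvd_one] at h5
    omega
  · have hne : ∀ m : ℕ, q * a = q * m → a = m := fun m h =>
      Nat.eq_of_mul_eq_mul_left (by omega) h
    have hadj := P.adj; have heq := P.eq; have := P.four; have := P.three_le_h
    rcases H55.clsSize_semisimple h4 (.inl htr) with ⟨-, h1⟩ | ⟨-, h1⟩ <;>
      rw [hsz', hqF] at h1 <;> have := hne _ h1 <;> omega

theorem odd_case (hodd : ¬ 2 ∣ Fintype.card F) (h7 : 7 ≤ Fintype.card F)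
    (h : Set.range (fun g : G => sz g) = Set.range (fun g : P2 => sz g)) :
    ∃ N A : Subgroup G, N.Normal ∧ A ≤ center G ∧ N ⊓ A = ⊥ ∧ N ⊔ A = ⊤ ∧ Nonempty (N ≃* P2) := by
  obtain ⟨a, b, P, H⟩ := exists_odd_params hodd h7 h
  obtain ⟨e⟩ := (oddX_quotient P H).psl (F := F) rfl
  have h20 := two_ne_zero_of_odd hodd
  refine exists_split (perfect_psl (by omega) e) (commutator_inf_center_of_sylow fun l hl => ?_) e
  haveI : Fact l.Prime := ⟨hl⟩
  by_cases hl2 : l = 2
  · subst hl2
    obtain ⟨y, hy⟩ := H.exi (Fintype.card F * a) (by simp [oddSizes])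
    have hne : sz y ≠ Fintype.card F * (2 * a) := by
      rw [hy]
      intro e'
      have := Nat.eq_of_mul_eq_mul_left (show 0 < Fintype.card F by omega) e'
      have := P.three_le_h
      omega
    have hyz : y ∉ center G := not_mem_center_of_sz (one_not_mem_oddSizes P)
      (show sz y ∈ oddSizes (Fintype.card F) a b by simp [hy, oddSizes])
    refine sylow_two_derived e h20 hyz
      (mul_self_eq_one_of_sz P rfl h20 (fun h1 => hyz ((proj_ker e).1 h1)) ?_) ?_
    · rw [sz_proj, odd_sz_bar_of_ne P H hne, hy]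
    · rw [hy]
      exact Nat.two_dvd_ne_zero.2 (Nat.odd_iff.1 (P.q_odd.mul P.h_odd))
  · obtain ⟨S⟩ := (inferInstance : Nonempty (Sylow l G))
    refine ⟨S, ?_⟩
    rw [sylow_abelian e (fun w hw hwz => odd_not_dvd_sz P H hl hw hwz fun h' => absurd h' hl2)
      (.inr hl2) S, bot_inf_eq]

end Cfsg.Agent.H86.PSLSizes
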