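import Cfsg.Agent.H86.PSLSizes.Count
import Cfsg.Agent.H86.PSLSizes.Central
import Cfsg.Agent.H86.PSLSizes.Radical

/-!
# A centreless group with the class sizes of `PSL(2, q)`, `q` odd: counting
-/

set_option autoImplicit false
set_option linter.style.haveILetI false
set_option linter.unusedSectionVars false

namespace Cfsg.Agent.H86.PSLSizes

open Subgroup
open Cfsg.Agent.Hall.TwoSizes (IsQ)
open Cfsg.Agent.H86.ClassSizes
open Cfsg.Agent.H86.ThreeSizes

universe u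

/-- A group of the order of `PSL(2, q)` whose class sizes are among those of `PSL(2, q)`. -/
structure OddX (X : Type u) [Group X] (q h k : ℕ) : Prop where
  par : OddParams q h k
  card : Nat.card X = q * h * (2 * k)
  sizes : ∀ x : X, x ≠ 1 → sz x ∈ oddSizes q h k

namespace OddX

variable {X : Type u} [Group X] [Finite X] {q h k : ℕ}

/-- The order of a centraliser. -/
noncomputable abbrev cc (x : X) : ℕ := Nat.card ↥(cz x)

theorem cases (D : OddX X q h k) {x : X} (hx : x ≠ 1) :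
    (cc x = q ∧ sz x = 2 * (h * k)) ∨ (cc x = h ∧ sz x = q * (2 * k)) ∨
      (cc x = 2 * k ∧ sz x = q * h) ∨ (cc x = k ∧ sz x = q * (2 * h)) := by
  have hm := card_cz_mul_sz x
  rw [D.card] at hm
  have h0 := sz_ne_zero x
  rcases D.sizes x hx with e | e | e | e <;> rw [e] at hm h0
  · exact .inl ⟨Nat.eq_of_mul_eq_mul_right (Nat.pos_of_ne_zero h0) (hm.trans (by ring)), e⟩
  · exact .inr (.inr (.inl ⟨Nat.eq_of_mul_eq_mul_right (Nat.pos_of_ne_zero h0) (hm.trans (by ring)), e⟩))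
  · exact .inr (.inl ⟨Nat.eq_of_mul_eq_mul_right (Nat.pos_of_ne_zero h0) (hm.trans (by ring)), e⟩)
  · exact .inr (.inr (.inr ⟨Nat.eq_of_mul_eq_mul_right (Nat.pos_of_ne_zero h0) (hm.trans (by ring)), e⟩))

theorem ne_values (D : OddX X q h k) :
    q ≠ h ∧ q ≠ 2 * k ∧ q ≠ k ∧ h ≠ 2 * k ∧ h ≠ k := by
  have := D.par.eq; have := D.par.adj; have := D.par.four
  omega

theorem card_lt_sz (D : OddX X q h k) {x : X} (hx : x ≠ 1) : cc x < sz x := by
  have := D.par.eq; have := D.par.adj; have := D.par.four; have := D.par.three_le_h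
  rcases D.cases hx with ⟨e, e'⟩ | ⟨e, e'⟩ | ⟨e, e'⟩ | ⟨e, e'⟩ <;> rw [e, e']
  · nlinarith
  · nlinarith
  · nlinarith
  · nlinarith

theorem center_eq_bot (D : OddX X q h k) : center X = ⊥ := by
  rw [eq_bot_iff]
  intro x hx
  by_contra hne
  exact one_not_mem_oddSizes D.par (sz_eq_one_iff.2 hx ▸ D.sizes x hne)

theorem nontrivial (D : OddX X q h k) : Nontrivial X := Finite.one_lt_card_iff_nontrivial.1 (by
  rw [D.card]
  have := D.par.four; have := D.par.three_le_h; have := D.par.seven_le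
  have h1 : 7 * 3 * (2 * 4) ≤ q * h * (2 * k) := by gcongr
  omega)

theorem rad_eq_bot (D : OddX X q h k) : Rad X = ⊥ := rad_eq_bot_of_small fun _ hx => D.card_lt_sz hx

theorem not_isSolvable (D : OddX X q h k) : ¬ Group.IsSolvable X := by
  haveI := D.nontrivial
  exact not_isSolvable_of_rad D.rad_eq_bot

/-! ### Counting -/

/-- Elements with centraliser of order `q`. -/
def uSet (X : Type u) [Group X] (q : ℕ) : Set X := {x | x ≠ 1 ∧ Nat.card ↥(cz x) = q}

/-- Elements with centraliser of order `k` or `2k`. -/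
def iSet (X : Type u) [Group X] (k : ℕ) : Set X :=
  {x | x ≠ 1 ∧ (Nat.card ↥(cz x) = 2 * k ∨ Nat.card ↥(cz x) = k)}

theorem mem_uSet {n : ℕ} {x : X} : x ∈ uSet X n ↔ x ≠ 1 ∧ cc x = n := Iff.rfl

theorem mem_iSet {x : X} : x ∈ iSet X k ↔ x ≠ 1 ∧ (cc x = 2 * k ∨ cc x = k) := Iff.rfl

theorem cc_conj (g x : X) : cc (g * x * g⁻¹) = cc x := by
  have h1 := card_cz_mul_sz x
  rw [← card_cz_mul_sz (g * x * g⁻¹), sz_conj] at h1
  exact (Nat.eq_of_mul_eq_mul_right (Nat.pos_of_ne_zero (sz_ne_zero x)) h1).symm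

theorem counts (D : OddX X q h k) :
    (uSet X q).ncard = 4 * (h * k) ∧ (uSet X h).ncard = (h - 1) * (q * k) ∧
      (iSet X k).ncard = (k - 1) * (q * h) := by
  obtain ⟨n1, n2, n3, n4, n5⟩ := D.ne_values
  have hP := D.par
  obtain ⟨a, ha⟩ : 2 * (h * k) ∣ (uSet X q).ncard := by
    refine dvd_ncard_of_invariant (fun g x hx => mem_uSet.2 ⟨fun e => hx.1 (conj_eq_one_iff.1 e),
      (cc_conj g x).trans hx.2⟩) fun x hx => ?_
    rcases D.cases hx.1 with ⟨e, e'⟩ | ⟨e, e'⟩ | ⟨e, e'⟩ | ⟨e, e'⟩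
    · exact e' ▸ dvd_refl _
    all_goals exact absurd (e.symm.trans hx.2) (by omega)
  obtain ⟨b, hb⟩ : q * (2 * k) ∣ (uSet X h).ncard := by
    refine dvd_ncard_of_invariant (fun g x hx => mem_uSet.2 ⟨fun e => hx.1 (conj_eq_one_iff.1 e),
      (cc_conj g x).trans hx.2⟩) fun x hx => ?_
    rcases D.cases hx.1 with ⟨e, e'⟩ | ⟨e, e'⟩ | ⟨e, e'⟩ | ⟨e, e'⟩
    · exact absurd (e.symm.trans hx.2) (by omega)
    · exact e' ▸ dvd_refl _
    all_goals exact absurd (e.symm.trans hx.2) (by omega)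
  obtain ⟨c, hc⟩ : q * h ∣ (iSet X k).ncard := by
    refine dvd_ncard_of_invariant (fun g x hx => mem_iSet.2 ⟨fun e => hx.1 (conj_eq_one_iff.1 e),
      by rw [cc_conj]; exact hx.2⟩) fun x hx => ?_
    rcases D.cases hx.1 with ⟨e, e'⟩ | ⟨e, e'⟩ | ⟨e, e'⟩ | ⟨e, e'⟩
    · exfalso; have := hx.2; rw [show Nat.card ↥(cz x) = q from e] at this; omega
    · exfalso; have := hx.2; rw [show Nat.card ↥(cz x) = h from e] at this; omega
    · exact e' ▸ dvd_refl _
    · exact e' ▸ Dvd.intro 2 (by ring)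
  have hsum : 1 + (uSet X q).ncard + (uSet X h).ncard + (iSet X k).ncard = Nat.card X := by
    have hu : ({1} ∪ uSet X q ∪ uSet X h ∪ iSet X k : Set X) = Set.univ := by
      refine Set.eq_univ_of_forall fun x => ?_
      by_cases hx : x = 1
      · exact .inl (.inl (.inl hx))
      rcases D.cases hx with ⟨e, -⟩ | ⟨e, -⟩ | ⟨e, -⟩ | ⟨e, -⟩
      · exact .inl (.inl (.inr ⟨hx, e⟩))
      · exact .inl (.inr ⟨hx, e⟩)
      · exact .inr ⟨hx, .inl e⟩
      · exact .inr ⟨hx, .inr e⟩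
    rw [← Set.ncard_univ, ← hu, Set.ncard_union_eq, Set.ncard_union_eq, Set.ncard_union_eq,
      Set.ncard_singleton]
    · exact Set.disjoint_singleton_left.2 fun h1 => h1.1 rfl
    · refine Set.disjoint_left.2 ?_
      rintro x (rfl | ⟨-, e⟩) ⟨h1, e'⟩
      · exact h1 rfl
      · exact n1 (e.symm.trans e')
    · refine Set.disjoint_left.2 ?_
      rintro x ((rfl | ⟨-, e⟩) | ⟨-, e⟩) ⟨h1, e'⟩
      · exact h1 rfl
      · rw [e] at e'; omega
      · rw [e] at e'; omega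
  rw [D.card, ha, hb, hc] at hsum
  have hq7 := hP.seven_le; have hk4 := hP.four; have hh3 := hP.three_le_h
  have hsq := hP.sq
  have hqd : q ∣ 1 + 2 * (h * k) * a := by
    refine (Nat.dvd_add_left (c := q * (2 * k * b + h * c)) (dvd_mul_right _ _)).1 ?_
    exact ⟨h * (2 * k), by rw [show q * (h * (2 * k)) = q * h * (2 * k) by ring, ← hsum]; ring⟩
  have hhd : h ∣ 1 + q * (2 * k) * b := by
    refine (Nat.dvd_add_left (c := h * (2 * k * a + q * c)) (dvd_mul_right _ _)).1 ?_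
    exact ⟨q * (2 * k), by rw [show h * (q * (2 * k)) = q * h * (2 * k) by ring, ← hsum]; ring⟩
  have hkd : k ∣ 1 + q * h * c := by
    refine (Nat.dvd_add_left (c := k * (2 * h * a + q * 2 * b)) (dvd_mul_right _ _)).1 ?_
    exact ⟨q * h * 2, by rw [show k * (q * h * 2) = q * h * (2 * k) by ring, ← hsum]; ring⟩
  have ha2 : 2 ≤ a := by
    by_contra hlt
    interval_cases a
    · rw [mul_zero, add_zero, Nat.dvd_one] at hqd; omega
    · have h1 : q ∣ q ^ 2 + 1 := (hqd.mul_left 2).trans ⟨1, by rw [hsq]; ring⟩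
      rw [Nat.dvd_add_right (dvd_pow_self q two_ne_zero), Nat.dvd_one] at h1
      omega
  have hb2 : h - 1 ≤ 2 * b := by
    have h1 : h ∣ 1 + 2 * b := by
      obtain ⟨d, hd⟩ : ∃ d : ℕ, q * (2 * k) * b = h * d + 2 * b := by
        rcases hP.adj with e | e
        · exact ⟨2 * k * b + 2 * (k - 1) * b, by
            obtain ⟨k', rfl⟩ : ∃ k', k = k' + 1 := ⟨k - 1, by omega⟩
            rw [hP.eq, e, Nat.add_sub_cancel]; ring⟩
        · exact ⟨2 * k * b + 2 * (h + 2) * b, by rw [hP.eq, e]; ring⟩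
      rw [hd, show 1 + (h * d + 2 * b) = (1 + 2 * b) + h * d by ring,
        Nat.dvd_add_left (dvd_mul_right _ _)] at hhd
      exact hhd
    have := Nat.le_of_dvd (by omega) h1
    omega
  have hc2 : k - 1 ≤ c := by
    have h1 : k ∣ 1 + c := by
      obtain ⟨d, hd⟩ : ∃ d : ℕ, q * h * c = k * d + c := by
        rcases hP.adj with e | e
        · exact ⟨h * c + (k + 2) * c, by rw [hP.eq, e]; ring⟩
        · exact ⟨h * c + (h - 1) * c, by
            obtain ⟨h', rfl⟩ : ∃ h', h = h' + 1 := ⟨h - 1, by omega⟩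
            rw [hP.eq, e, Nat.add_sub_cancel]; ring⟩
      rw [hd, show 1 + (k * d + c) = (1 + c) + k * d by ring,
        Nat.dvd_add_left (dvd_mul_right _ _)] at hkd
      exact hkd
    have := Nat.le_of_dvd (by omega) h1
    omega
  obtain ⟨H', rfl⟩ : ∃ H', h = H' + 1 := ⟨h - 1, by omega⟩
  obtain ⟨K', rfl⟩ : ∃ K', k = K' + 1 := ⟨k - 1, by omega⟩
  simp only [Nat.add_sub_cancel] at hb2 hc2 ⊢
  have e1 : 2 * ((H' + 1) * (K' + 1)) * 2 ≤ 2 * ((H' + 1) * (K' + 1)) * a := Nat.mul_le_mul_left _ ha2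
  have e2 : q * (K' + 1) * H' ≤ q * (K' + 1) * (2 * b) := Nat.mul_le_mul_left _ hb2
  have e3 : q * (H' + 1) * K' ≤ q * (H' + 1) * c := Nat.mul_le_mul_left _ hc2
  have hq' := hP.eq
  have tot : q * (H' + 1) * (2 * (K' + 1)) = 1 + 2 * ((H' + 1) * (K' + 1)) * 2 +
      q * (K' + 1) * H' + q * (H' + 1) * K' := by
    subst hq'
    linear_combination hsq
  have e2' : q * (2 * (K' + 1)) * b = q * (K' + 1) * (2 * b) := by ring
  rw [ha, hb, hc, e2']
  refine ⟨?_, ?_, ?_⟩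
  · nlinarith
  · nlinarith
  · nlinarith

theorem perfect (D : OddX X q h k) : commutator X = ⊤ := by
  by_contra hne
  obtain ⟨l, hl, hld, N, -, hN, hmem⟩ := exists_prime_kernel hne
  have hP := D.par
  have hq7 := hP.seven_le; have hk4 := hP.four; have hh3 := hP.three_le_h
  obtain ⟨c1, c2, c3⟩ := D.counts
  have hsub : ∀ S : Set X, (∀ x : X, x ≠ 1 → x ∉ S → ¬ l ∣ cc x) → 2 * S.ncard < Nat.card X → False := by
    intro S hS hlt
    have h1 : Sᶜ ⊆ (N : Set X) := fun x hx => by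
      by_cases hx1 : x = 1
      · exact hx1 ▸ N.one_mem
      exact hmem x fun hd => hS x hx1 hx (hd.trans
        ((orderOf_mk x (mem_cz.2 (Commute.refl x))) ▸ _root_.orderOf_dvd_natCard (⟨x, mem_cz.2 (Commute.refl x)⟩ : ↥(cz x))))
    have h2 := Set.ncard_le_ncard h1 (Set.toFinite _)
    rw [Set.ncard_compl] at h2
    have h3 : 2 ≤ N.index := by
      have := index_ne_zero_of_finite (H := N)
      have : N.index ≠ 1 := fun e => hN (index_eq_one.1 e)
      omega
    have h4 := card_mul_index N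
    have h5 : Nat.card ↥N * 2 ≤ Nat.card X := h4 ▸ Nat.mul_le_mul_left _ h3
    have h6 : (N : Set X).ncard = Nat.card ↥N := (Nat.card_coe_set_eq _).symm
    omega
  have hco : ∀ a b : ℕ, a.Coprime b → l ∣ a → ¬ l ∣ b := fun a b hab ha hb =>
    hl.not_dvd_one (hab.gcd_eq_one ▸ Nat.dvd_gcd ha hb)
  have hmulk : ∀ x : X, x ≠ 1 → x ∉ iSet X k → cc x = q ∨ cc x = h := fun x hx hxi => by
    rcases D.cases hx with ⟨e, -⟩ | ⟨e, -⟩ | ⟨e, -⟩ | ⟨e, -⟩
    · exact .inl e
    · exact .inr e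
    · exact absurd ⟨hx, .inl e⟩ hxi
    · exact absurd ⟨hx, .inr e⟩ hxi
  rw [D.card] at hld
  rcases hl.dvd_mul.1 hld with hd | hd
  rcases hl.dvd_mul.1 hd with hd | hd
  · refine hsub (uSet X q) (fun x hx hxu => ?_) (by rw [c1, D.card]; nlinarith)
    rcases D.cases hx with ⟨e, -⟩ | ⟨e, -⟩ | ⟨e, -⟩ | ⟨e, -⟩ <;> rw [e]
    · exact absurd ⟨hx, e⟩ hxu
    · exact hco _ _ hP.cop_qh hd
    · exact hco _ _ hP.cop_q2k hd
    · exact hco _ _ hP.cop_qk hd
  · refine hsub (uSet X h) (fun x hx hxu => ?_) (by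
      rw [c2, D.card]
      obtain ⟨H', rfl⟩ : ∃ H', h = H' + 1 := ⟨h - 1, by omega⟩
      rw [Nat.add_sub_cancel]
      have : 0 < q * k := by positivity
      nlinarith)
    rcases D.cases hx with ⟨e, -⟩ | ⟨e, -⟩ | ⟨e, -⟩ | ⟨e, -⟩ <;> rw [e]
    · exact hco _ _ hP.cop_qh.symm hd
    · exact absurd ⟨hx, e⟩ hxu
    · exact hco _ _ hP.cop_h2k hd
    · exact hco _ _ hP.cop_hk hd
  · refine hsub (iSet X k) (fun x hx hxu => ?_) (by
      rw [c3, D.card]
      obtain ⟨K', rfl⟩ : ∃ K', k = K' + 1 := ⟨k - 1, by omega⟩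
      rw [Nat.add_sub_cancel]
      have : 0 < q * h := by positivity
      nlinarith)
    rcases hmulk x hx hxu with e | e <;> rw [e]
    · exact hco _ _ hP.cop_q2k.symm hd
    · exact hco _ _ hP.cop_h2k.symm hd

theorem not_isSolvable_quotient (D : OddX X q h k) {N : Subgroup X} [N.Normal] (hN : N ≠ ⊤) :
    ¬ Group.IsSolvable (X ⧸ N) := fun hs => by
  haveI := hs
  haveI : Nontrivial (X ⧸ N) := QuotientGroup.nontrivial_iff.2 hN
  refine (Group.IsSolvable.commutator_lt_top_of_nontrivial (G := X ⧸ N)).ne ?_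
  rw [commutator_def, ← map_top_of_surjective (QuotientGroup.mk' N) (QuotientGroup.mk'_surjective N),
    ← map_commutator, ← commutator_def, D.perfect, map_top_of_surjective _ (QuotientGroup.mk'_surjective N)]

/-! ### Centralisers of order `h` -/

theorem cc_eq_h_of_dvd (D : OddX X q h k) {x : X} (hx : x ≠ 1) {r : ℕ} (hr : r.Prime) (hrh : r ∣ h)
    (hd : r ∣ cc x) : cc x = h := by
  have hco : ∀ a b : ℕ, a.Coprime b → r ∣ a → r ∣ b → False := fun a b hab ha hb =>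
    hr.not_dvd_one (hab.gcd_eq_one ▸ Nat.dvd_gcd ha hb)
  rcases D.cases hx with ⟨e, -⟩ | ⟨e, -⟩ | ⟨e, -⟩ | ⟨e, -⟩ <;> rw [e] at hd
  · exact absurd hrh fun h' => hco _ _ D.par.cop_qh hd h'
  · exact e
  · exact absurd hrh fun h' => hco _ _ D.par.cop_h2k h' hd
  · exact absurd hrh fun h' => hco _ _ D.par.cop_hk h' hd

theorem cc_eq_h_of_le (D : OddX X q h k) {x y : X} (hy : y ≠ 1) (hc : cc x = h) (hle : cz x ≤ cz y) :
    cc y = h ∧ cz y = cz x := by
  obtain ⟨r, hr, hrh⟩ := Nat.exists_prime_and_dvd (show h ≠ 1 by have := D.par.three_le_h; omega)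
  have e := D.cc_eq_h_of_dvd hy hr hrh (hrh.trans (hc ▸ card_dvd_of_le hle))
  exact ⟨e, (eq_of_le_of_card_ge hle (by rw [show Nat.card ↥(cz y) = h from e,
    show Nat.card ↥(cz x) = h from hc])).symm⟩

theorem normalizer_index_mul (D : OddX X q h k) {x : X} (hc : cc x = h) :
    ∃ w : ℕ, (normalizer (cz x : Set X)).index * (h * w) = q * h * (2 * k) ∧
      Nat.card ↥(normalizer (cz x : Set X)) = h * w := by
  obtain ⟨w, hw⟩ := (show Nat.card ↥(cz x) = h from hc) ▸ card_dvd_of_le (le_normalizer (H := cz x))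
  exact ⟨w, by rw [← hw, mul_comm, card_mul_index, D.card], hw⟩

theorem commute_h (D : OddX X q h k) {x : X} (hx : x ≠ 1) (hc : cc x = h) {a b : X}
    (ha : a ∈ cz x) (hb : b ∈ cz x) : Commute a b := by
  have hP := D.par
  have hh3 := hP.three_le_h
  have hZ := D.center_eq_bot
  obtain ⟨r, hr, hrh⟩ := Nat.exists_prime_and_dvd (show h ≠ 1 by omega)
  by_cases htwo : ∃ s : ℕ, s.Prime ∧ s ∣ h ∧ s ≠ r
  · obtain ⟨s, hs, hsh, hsr⟩ := htwo
    have hxz : x ∉ center X := by rw [hZ, mem_bot]; exact hx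
    have hext : Extremal x := by
      refine extremal_of_mem hP (fun v hv => D.sizes v fun e => hv (e ▸ one_mem _)) (.inr ?_)
      obtain ⟨n1, n2, n3, n4, n5⟩ := D.ne_values
      rcases D.cases hx with ⟨e, e'⟩ | ⟨e, e'⟩ | ⟨e, e'⟩ | ⟨e, e'⟩
      · omega
      · exact e'
      · omega
      · omega
    have hm : mz x = h := by
      rw [mz, hZ, relIndex_bot_left]; exact hc
    have hall : cz x ≤ centralizer (cz x : Set X) := le_of_forall_isQ fun l hl e he hel =>
      mem_centralizer_iff.2 fun u hu => by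
        by_cases hez : e ∈ center X
        · exact mem_center_iff.1 hez u
        · have := cz_eq_of_extremal hext hxz hr hs hsr.symm (hm.symm ▸ hrh) (hm.symm ▸ hsh) hl hel he hez
          exact (mem_cz.1 (this.symm ▸ hu : u ∈ cz e)).eq
    exact mem_centralizer_iff.1 (hall hb) a ha
  push Not at htwo
  haveI : Fact r.Prime := ⟨hr⟩
  obtain ⟨e, he⟩ : ∃ e, h = r ^ e := ⟨_, Nat.eq_prime_pow_of_unique_prime_dvd (by omega)
    fun {d} hd hdh => htwo d hd hdh⟩
  have hsyl : ∀ y : X, cc y = h → ∃ S : Sylow r X, (S : Subgroup X) = cz y := fun y hy => by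
    refine ⟨(IsPGroup.of_card (n := e) (hy.trans he)).toSylow ?_, rfl⟩
    intro hd
    have := card_mul_index (cz y)
    rw [show Nat.card ↥(cz y) = h from hy, D.card, show q * h * (2 * k) = h * (q * (2 * k)) by ring] at this
    rw [Nat.eq_of_mul_eq_mul_left (by omega) this] at hd
    exact hr.not_dvd_one ((Nat.Coprime.mul_right hP.cop_qh.symm hP.cop_h2k).gcd_eq_one ▸
      Nat.dvd_gcd hrh hd)
  set H := cz x with hH
  set Z := H ⊓ centralizer (H : Set X) with hZdef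
  have hxZ : x ∈ Z := ⟨mem_cz.2 (Commute.refl x), mem_centralizer_iff.2 fun u hu => (mem_cz.1 hu).eq⟩
  have hZcz : ∀ z ∈ Z, z ≠ 1 → cc z = h ∧ cz z = H := fun z hz hz1 =>
    D.cc_eq_h_of_le hz1 hc fun u hu => mem_cz.2 (mem_centralizer_iff.1 hz.2 u hu)
  have hTI : ∀ g : X, ∀ a ∈ (Z : Set X) \ {1}, g * a * g⁻¹ ∈ (Z : Set X) \ {1} →
      g ∈ normalizer (H : Set X) := by
    intro g a ⟨haZ, ha1⟩ ⟨hgZ, hg1⟩
    obtain ⟨-, e1⟩ := hZcz a haZ ha1
    obtain ⟨-, e2⟩ := hZcz _ hgZ hg1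
    refine mem_normalizer_iff.2 fun v => ?_
    rw [← e1]
    conv_rhs => rw [e1, ← e2, mem_cz]
    rw [mem_cz]
    exact ⟨fun hh => commute_conj g hh, fun hh => by
      have := commute_conj g⁻¹ hh
      rwa [inv_inv, show g⁻¹ * (g * v * g⁻¹) * g = v by group,
        show g⁻¹ * (g * a * g⁻¹) * g = a by group] at this⟩
  have hfix : ∀ g ∈ normalizer (H : Set X), ∀ a ∈ (Z : Set X) \ {1}, g * a * g⁻¹ ∈ (Z : Set X) \ {1} := by
    rintro g hg a ⟨⟨haH, haC⟩, ha1⟩
    refine ⟨⟨(mem_normalizer_iff.1 hg a).1 haH, mem_centralizer_iff.2 fun u hu => ?_⟩,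
      fun e => ha1 (conj_eq_one_iff.1 e)⟩
    have h1 : g⁻¹ * u * g ∈ H := (mem_normalizer_iff.1 hg _).2 (by
      rwa [show g * (g⁻¹ * u * g) * g⁻¹ = u by group])
    have h2 := commute_conj g (show Commute (g⁻¹ * u * g) a from mem_centralizer_iff.1 haC _ h1)
    rwa [show g * (g⁻¹ * u * g) * g⁻¹ = u by group] at h2
  have hB : uSet X h = {y | ∃ g : X, ∃ a ∈ (Z : Set X) \ {1}, g * a * g⁻¹ = y} := by
    ext y
    refine ⟨fun ⟨hy1, hy⟩ => ?_, ?_⟩
    · obtain ⟨S, hS⟩ := hsyl x hc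
      obtain ⟨T, hT⟩ := hsyl y hy
      obtain ⟨g, hg⟩ := MulAction.exists_smul_eq X T S
      have hmem : ∀ u : X, u ∈ cz y → g * u * g⁻¹ ∈ H := fun u hu => by
        rw [show H = (S : Subgroup X) from hS.symm, ← hg]
        exact ⟨u, hT.symm ▸ hu, rfl⟩
      refine ⟨g⁻¹, g * y * g⁻¹, ⟨⟨hmem y (mem_cz.2 (Commute.refl y)),
        mem_centralizer_iff.2 fun u hu => ?_⟩, fun e' => hy1 (conj_eq_one_iff.1 e')⟩, by group⟩
      rw [show H = (S : Subgroup X) from hS.symm, ← hg] at hu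
      obtain ⟨v, hv, rfl⟩ := hu
      exact (commute_conj g (mem_cz.1 (hT ▸ hv : v ∈ cz y))).eq
    · rintro ⟨g, a, ⟨haZ, ha1⟩, rfl⟩
      exact mem_uSet.2 ⟨fun e' => ha1 (conj_eq_one_iff.1 e'), (cc_conj g a).trans (hZcz a haZ ha1).1⟩
  have hcount := ncard_conj_union _ _ hfix hTI
  rw [← hB, D.counts.2.1, ncard_diff_one] at hcount
  obtain ⟨w, hw, -⟩ := D.normalizer_index_mul hc
  -- the centre of `H` is everything
  obtain ⟨m, hm⟩ : Nat.card ↥Z ∣ h := hc ▸ card_dvd_of_le inf_le_left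
  have hZpos : 2 ≤ Nat.card ↥Z := Z.one_lt_card_iff_ne_bot.2 (fun e => hx (mem_bot.1 (e ▸ hxZ)))
  have key : (h - 1) * w = 2 * (Nat.card ↥Z - 1) := by
    have h0 : 0 < q * (k * h) := by have := hP.seven_le; have := hP.four; positivity
    refine Nat.eq_of_mul_eq_mul_left h0 ?_
    calc q * (k * h) * ((h - 1) * w) = (h - 1) * (q * k) * (h * w) := by ring
      _ = (normalizer (H : Set X)).index * (h * w) * (Nat.card ↥Z - 1) := by rw [hcount]; ring
      _ = q * (k * h) * (2 * (Nat.card ↥Z - 1)) := by rw [hw]; ring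
  have hm1 : m = 1 := by
    have hmodd : Odd m := Nat.Odd.of_mul_right (hm ▸ hP.h_odd)
    by_contra hne
    have hm3 : 3 ≤ m := by
      rcases Nat.lt_or_ge m 3 with hlt | hge
      · obtain ⟨j, hj⟩ := hmodd; omega
      · exact hge
    have hw1 : 1 ≤ w := by
      rcases Nat.eq_zero_or_pos w with rfl | hpos
      · omega
      · exact hpos
    have h1 : h - 1 ≤ (h - 1) * w := Nat.le_mul_of_pos_right _ hw1
    have h2 : Nat.card ↥Z * 3 ≤ h := (Nat.mul_le_mul_left _ hm3).trans_eq hm.symm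
    omega
  rw [hm1, mul_one] at hm
  have hZH : Z = H := eq_of_le_of_card_ge inf_le_left (hc.trans hm).le
  exact (mem_centralizer_iff.1 ((hZH.symm ▸ hb : b ∈ Z)).2 a ha)

theorem cz_eq_h (D : OddX X q h k) {x y : X} (hx : x ≠ 1) (hc : cc x = h) (hy : y ∈ cz x) (hy1 : y ≠ 1) :
    cc y = h ∧ cz y = cz x :=
  D.cc_eq_h_of_le hy1 hc fun _ hu => mem_cz.2 (D.commute_h hx hc hu hy)

theorem mem_normalizer_h (D : OddX X q h k) {x a g : X} (hx : x ≠ 1) (hc : cc x = h) (ha : a ∈ cz x)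
    (ha1 : a ≠ 1) (hg : g * a * g⁻¹ ∈ cz x) : g ∈ normalizer (cz x : Set X) := by
  obtain ⟨-, e1⟩ := D.cz_eq_h hx hc ha ha1
  obtain ⟨-, e2⟩ := D.cz_eq_h hx hc hg (fun e => ha1 (conj_eq_one_iff.1 e))
  refine mem_normalizer_iff.2 fun v => ?_
  conv_lhs => rw [← e1, mem_cz]
  conv_rhs => rw [← e2, mem_cz]
  exact ⟨fun hh => commute_conj g hh, fun hh => by
    have := commute_conj g⁻¹ hh
    rwa [inv_inv, show g⁻¹ * (g * v * g⁻¹) * g = v by group,
      show g⁻¹ * (g * a * g⁻¹) * g = a by group] at this⟩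

theorem exists_conj_h (D : OddX X q h k) {x y : X} (hx : x ≠ 1) (hc : cc x = h)
    (hyc : cc y = h) : ∃ g : X, g * y * g⁻¹ ∈ cz x := by
  obtain ⟨r, hr, hrh⟩ := Nat.exists_prime_and_dvd (show h ≠ 1 by have := D.par.three_le_h; omega)
  haveI : Fact r.Prime := ⟨hr⟩
  obtain ⟨A, hA, hAp, hAi⟩ := exists_sylow_in r (cz x)
  have hAx : ¬ r ∣ A.index := by
    rw [← relIndex_mul_index hA]
    refine hr.not_dvd_mul hAi ?_
    intro hd
    have := card_mul_index (cz x)
    rw [show Nat.card ↥(cz x) = h from hc, D.card, show q * h * (2 * k) = h * (q * (2 * k)) by ring] at this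
    rw [Nat.eq_of_mul_eq_mul_left (by have := D.par.three_le_h; omega) this] at hd
    exact hr.not_dvd_one ((Nat.Coprime.mul_right D.par.cop_qh.symm D.par.cop_h2k).gcd_eq_one ▸
      Nat.dvd_gcd hrh hd)
  obtain ⟨⟨w, hw⟩, hwr⟩ := exists_prime_orderOf_dvd_card' (G := ↥(cz y)) r (hrh.trans (dvd_of_eq hyc.symm))
  rw [orderOf_mk] at hwr
  obtain ⟨g, hg⟩ := exists_conj_mem_sylow (isQ_of_orderOf hwr) (hAp.toSylow hAx)
  have hw1 := ne_one_of_orderOf_prime hr hwr
  have h1 : g * w * g⁻¹ ∈ cz x := hA hg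
  obtain ⟨-, e2⟩ := D.cz_eq_h hx hc h1 (fun e => hw1 (conj_eq_one_iff.1 e))
  exact ⟨g, e2 ▸ mem_cz.2 (commute_conj g (mem_cz.1 hw).symm)⟩

theorem normalizer_solvable_h (D : OddX X q h k) {x : X} (hx : x ≠ 1) (hc : cc x = h) :
    Group.IsSolvable ↥(normalizer (cz x : Set X)) := by
  have hcount := ncard_conj_union ((cz x : Set X) \ {1}) (normalizer (cz x : Set X))
    (fun g hg a ha => ⟨(mem_normalizer_iff.1 hg a).1 ha.1, fun e => ha.2 (conj_eq_one_iff.1 e)⟩)
    (fun g a ha hg => D.mem_normalizer_h hx hc ha.1 ha.2 hg.1)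
  have hB : uSet X h = {y | ∃ g : X, ∃ a ∈ (cz x : Set X) \ {1}, g * a * g⁻¹ = y} := by
    ext y
    refine ⟨fun ⟨hy1, hy⟩ => ?_, ?_⟩
    · obtain ⟨g, hg⟩ := D.exists_conj_h hx hc hy
      exact ⟨g⁻¹, g * y * g⁻¹, ⟨hg, fun e => hy1 (conj_eq_one_iff.1 e)⟩, by group⟩
    · rintro ⟨g, a, ⟨ha, ha1⟩, rfl⟩
      exact mem_uSet.2 ⟨fun e => ha1 (conj_eq_one_iff.1 e), (cc_conj g a).trans (D.cz_eq_h hx hc ha ha1).1⟩
  rw [← hB, D.counts.2.1, ncard_diff_one, show Nat.card ↥(cz x) = h from hc] at hcount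
  have hh3 := D.par.three_le_h
  obtain ⟨w, hw, hcard⟩ := D.normalizer_index_mul hc
  have hN : (normalizer (cz x : Set X)).index = q * k :=
    Nat.eq_of_mul_eq_mul_right (show 0 < h - 1 by omega) (hcount.symm.trans (mul_comm _ _))
  rw [hN] at hw
  have hw2 : w = 2 := by
    refine Nat.eq_of_mul_eq_mul_left (show 0 < q * k * h by
      have := D.par.seven_le; have := D.par.four; positivity) ?_
    linear_combination hw
  subst hw2
  set N := normalizer (cz x : Set X)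
  haveI : ((cz x).subgroupOf N).Normal := normal_in_normalizer
  haveI : Fact (Nat.Prime 2) := ⟨Nat.prime_two⟩
  refine (Group.isSolvable_iff_subgroup_quotient ((cz x).subgroupOf N)).2 ⟨?_, ?_⟩
  · exact Group.isSolvable_of_comm fun a b => Subtype.ext (Subtype.ext
      (D.commute_h hx hc (mem_subgroupOf.1 a.2) (mem_subgroupOf.1 b.2)).eq)
  · have h2 : Nat.card (↥N ⧸ (cz x).subgroupOf N) = 2 := by
      have h1 := card_eq_card_quotient_mul_card_subgroup ((cz x).subgroupOf N)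
      rw [hcard, Nat.card_congr (subgroupOfEquivOfLe le_normalizer).toEquiv,
        show Nat.card ↥(cz x) = h from hc, mul_comm] at h1
      exact (Nat.eq_of_mul_eq_mul_right (by omega) h1).symm
    haveI := isCyclic_of_prime_card h2
    exact Group.isSolvable_of_comm fun a b => IsCyclic.commGroup.mul_comm a b

theorem exists_h (D : OddX X q h k) : ∃ x : X, x ≠ 1 ∧ cc x = h := by
  have h1 := D.counts.2.1
  have hne : (uSet X h).Nonempty := by
    refine Set.nonempty_of_ncard_ne_zero ?_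
    rw [h1]
    have := D.par.three_le_h; have := D.par.seven_le; have := D.par.four
    have : 0 < q * k := by positivity
    exact Nat.mul_ne_zero (by omega) (by omega)
  exact hne

end OddX

end Cfsg.Agent.H86.PSLSizes
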