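import Cfsg.Agent.H86.PSLSizes.OddTwo
import Cfsg.Agent.H86.ClassSizes.CC
import Cfsg.Agent.H27.Dihedral
import Cfsg.Agent.S0508

/-!
# Odd `q`: a dihedral Sylow subgroup
-/

set_option autoImplicit false
set_option linter.style.haveILetI false
set_option linter.unusedSectionVars false

namespace Cfsg.Agent.H86.PSLSizes

open Subgroup
open Cfsg.Agent.Hall.TwoSizes (IsQ)
open Cfsg.Agent.H86.ClassSizes

universe u

/-- A group with a cyclic subgroup of index two inverted by an outside involution is dihedral. -/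
theorem nonempty_dihedral {S : Type u} [Group S] [Finite S] (A : Subgroup S) [IsCyclic ↥A] {s : S}
    (hs : s ∉ A) (hs2 : s * s = 1) (hidx : A.index = 2) (hinv : ∀ a ∈ A, s * a * s⁻¹ = a⁻¹) :
    Nonempty (S ≃* DihedralGroup (Nat.card ↥A)) := by
  set T : Multiplicative (ZMod (Nat.card ↥A)) →* S :=
    A.subtype.comp (zmodCyclicMulEquiv ‹IsCyclic ↥A›).toMonoidHom with hT
  have hmem : ∀ a, T a ∈ A := fun a => ((zmodCyclicMulEquiv ‹IsCyclic ↥A›) a).2
  have hTs : ∀ a, T a * s = s * T a⁻¹ := fun a => by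
    rw [map_inv, ← hinv _ (hmem a), inv_eq_of_mul_eq_one_right hs2, ← mul_assoc, ← mul_assoc, hs2, one_mul]
  have hinj : Function.Injective T := A.subtype_injective.comp (MulEquiv.injective _)
  have hf := H27.Dihedral.ofInverting_bijective_range T s hs2 hTs hinj fun a e => hs (e ▸ hmem a)
  haveI : NeZero (Nat.card ↥A) := ⟨Nat.card_pos.ne'⟩
  have hb := hf.bijective_of_nat_card_le (by
    rw [DihedralGroup.nat_card, ← card_mul_index A, hidx, mul_comm])
  exact ⟨(MulEquiv.ofBijective _ hb).symm⟩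

namespace OddX

variable {X : Type u} [Group X] [Finite X] {q h k : ℕ}

theorem cc_k_of_dvd (D : OddX X q h k) {x : X} (hx : x ≠ 1) {r : ℕ} (hr : r.Prime) (hrk : r ∣ 2 * k)
    (hd : r ∣ cc x) : cc x = 2 * k ∨ cc x = k := by
  have hco : ∀ a : ℕ, a.Coprime (2 * k) → r ∣ a → False := fun a hab ha =>
    hr.not_dvd_one (hab.gcd_eq_one ▸ Nat.dvd_gcd ha hrk)
  rcases D.cases hx with ⟨e, -⟩ | ⟨e, -⟩ | ⟨e, -⟩ | ⟨e, -⟩ <;> rw [e] at hd
  · exact absurd hd (hco _ D.par.cop_q2k)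
  · exact absurd hd (hco _ D.par.cop_h2k)
  · exact .inl e
  · exact .inr e

theorem orderOf_dvd_cc {x y : X} (h : y ∈ cz x) : orderOf y ∣ cc x := by
  rw [← orderOf_mk y h]
  exact _root_.orderOf_dvd_natCard (⟨y, h⟩ : ↥(cz x))

/-- An element of the order-`2k` centraliser has centraliser of order `k` or `2k`. -/
theorem cc_of_mem {X : Type u} [Group X] [Finite X] {q h k : ℕ} (D : OddX X q h k) {t x : X}
    (ht : cc t = 2 * k) (hx : x ≠ 1) (hxt : x ∈ cz t) : cc x = 2 * k ∨ cc x = k := by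
  obtain ⟨r, hr, hrx⟩ := Nat.exists_prime_and_dvd (mt orderOf_eq_one_iff.1 hx)
  exact D.cc_k_of_dvd hx hr (hrx.trans (ht ▸ orderOf_dvd_cc hxt))
    (hrx.trans (orderOf_dvd_cc (mem_cz.2 (Commute.refl x))))

theorem exists_central_involution (D : OddX X q h k) :
    ∃ (S : Sylow 2 X) (t : X), t ∈ (S : Subgroup X) ∧ orderOf t = 2 ∧ (S : Subgroup X) ≤ cz t ∧
      cc t = 2 * k := by
  haveI : Fact (Nat.Prime 2) := ⟨Nat.prime_two⟩
  obtain ⟨S⟩ := (inferInstance : Nonempty (Sylow 2 X))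
  obtain ⟨t, htS, ht, htc⟩ := exists_central S (by
    rw [D.card]; exact Dvd.intro (q * h * k) (by ring))
  refine ⟨S, t, htS, ht, htc, ?_⟩
  rcases D.cc_k_of_dvd (ne_one_of_orderOf_prime Nat.prime_two ht) Nat.prime_two (dvd_mul_right 2 k)
    (ht ▸ orderOf_dvd_cc (mem_cz.2 (Commute.refl t))) with e | e
  · exact e
  · exfalso
    refine not_dvd_sz htc ?_
    rcases D.cases (ne_one_of_orderOf_prime Nat.prime_two ht) with ⟨e', -⟩ | ⟨e', -⟩ | ⟨e', -⟩ | ⟨-, e'⟩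
    iterate 3 (exfalso; obtain ⟨n1, n2, n3, n4, n5⟩ := D.ne_values; have := D.par.four; omega)
    rw [e']
    exact Dvd.intro (q * h) (by ring)

theorem pow_two_mem_of_half {C K : Subgroup X} (hle : K ≤ C) (hc : Nat.card ↥C ≤ 2 * Nat.card ↥K)
    {u : X} (hu : u ∈ C) : u * u ∈ K := by
  have h1 := card_mul_index (K.subgroupOf C)
  rw [Nat.card_congr (subgroupOfEquivOfLe hle).toEquiv] at h1
  have hpos : 0 < Nat.card ↥K := Nat.card_pos
  have h2 : (K.subgroupOf C).index ≤ 2 := by nlinarith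
  have h3 : (K.subgroupOf C).index ≠ 0 := index_ne_zero_of_finite
  rcases (by omega : (K.subgroupOf C).index = 1 ∨ (K.subgroupOf C).index = 2) with h4 | h4
  · have h5 : C ≤ K := relIndex_eq_one.1 h4
    exact h5 (C.mul_mem hu hu)
  · have h5 := mul_self_mem_of_index_two h4 (⟨u, hu⟩ : ↥C)
    simpa [mem_subgroupOf] using h5

theorem mem_of_odd_of_sq {K : Subgroup X} {u : X} (hu : Odd (orderOf u)) (h : u * u ∈ K) : u ∈ K := by
  obtain ⟨m, hm⟩ := exists_pow_eq_self_of_coprime (x := u) (n := 2) (Nat.coprime_two_left.2 hu)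
  rw [← hm, sq]
  exact pow_mem h m

/-- Odd-order elements of the centraliser commute. -/
theorem commute_odd (D : OddX X q h k) {t : X} (ht : orderOf t = 2) (htc : cc t = 2 * k) {u v : X}
    (hu : u ∈ cz t) (huo : Odd (orderOf u)) (hv : v ∈ cz t) (hvo : Odd (orderOf v)) : Commute u v := by
  have hc : Commute t v := (mem_cz.1 hv).symm
  have hco : (orderOf t).Coprime (orderOf v) := by rw [ht]; exact Nat.coprime_two_left.2 hvo
  have htm : t * v ∈ cz t := (cz t).mul_mem (mem_cz.2 (Commute.refl t)) hv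
  have hne : t * v ≠ 1 := fun e => ne_one_of_orderOf_prime Nat.prime_two ht (by
    have h1 := mem_zpowers_mul hc hco
    rwa [e, zpowers_one_eq_bot, mem_bot] at h1)
  have h1 := pow_two_mem_of_half (cz_mul_le_left hc hco) (by
    rcases D.cc_of_mem htc hne htm with e | e <;>
      rw [show Nat.card ↥(cz (t * v)) = _ from e, show Nat.card ↥(cz t) = 2 * k from htc] <;> omega) hu
  exact mem_cz.1 (cz_mul_le_right hc hco (mem_of_odd_of_sq huo h1))

/-- The odd part of the centraliser of a central involution, when it is not trivial. -/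
structure Local (X : Type u) [Group X] [Finite X] (q h k : ℕ) (t : X) (O : Subgroup X) : Prop where
  dat : OddX X q h k
  invol : orderOf t = 2
  cc_t : Nat.card ↥(cz t) = 2 * k
  mem_iff : ∀ u : X, u ∈ O ↔ u ∈ cz t ∧ Odd (orderOf u)
  ne_bot : O ≠ ⊥

theorem exists_local (D : OddX X q h k) (hk : ∀ a : ℕ, k ≠ 2 ^ a) :
    ∃ (S : Sylow 2 X) (t : X) (O : Subgroup X), t ∈ (S : Subgroup X) ∧ (S : Subgroup X) ≤ cz t ∧
      Local X q h k t O := by
  obtain ⟨S, t, htS, ht, hSt, htc⟩ := D.exists_central_involution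
  let O : Subgroup X :=
    { carrier := {u | u ∈ cz t ∧ Odd (orderOf u)}
      one_mem' := ⟨one_mem _, by rw [orderOf_one]; exact odd_one⟩
      mul_mem' := fun {u v} hu hv => ⟨(cz t).mul_mem hu.1 hv.1,
        (hu.2.mul hv.2).of_dvd_nat (D.commute_odd ht htc hu.1 hu.2 hv.1 hv.2).orderOf_mul_dvd_mul_orderOf⟩
      inv_mem' := fun {u} hu => ⟨(cz t).inv_mem hu.1, by rw [orderOf_inv]; exact hu.2⟩ }
  refine ⟨S, t, O, htS, hSt, D, ht, htc, fun u => Iff.rfl, ?_⟩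
  obtain ⟨a, o, ho, hko⟩ := Nat.exists_eq_pow_mul_and_not_dvd
    (show k ≠ 0 by have := D.par.four; omega) 2 (by norm_num)
  have ho1 : o ≠ 1 := fun e => hk a (by rw [hko, e, mul_one])
  obtain ⟨r, hr, hro⟩ := Nat.exists_prime_and_dvd ho1
  haveI : Fact r.Prime := ⟨hr⟩
  obtain ⟨⟨w, hw⟩, hwr⟩ := exists_prime_orderOf_dvd_card' (G := ↥(cz t)) r (by
    rw [show Nat.card ↥(cz t) = 2 * k from htc, hko]
    exact (hro.mul_left _).mul_left _)
  rw [orderOf_mk] at hwr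
  refine ne_bot_iff_exists_ne_one.2 ⟨⟨w, hw, hwr ▸ ?_⟩, fun e => ne_one_of_orderOf_prime hr hwr
    (congrArg Subtype.val e)⟩
  exact hr.odd_of_ne_two fun e => ho (e ▸ hro)

namespace Local

variable {t : X} {O : Subgroup X}

theorem le_cz (L : Local X q h k t O) : O ≤ cz t := fun _ hu => ((L.mem_iff _).1 hu).1

theorem odd_of_mem (L : Local X q h k t O) {u : X} (hu : u ∈ O) : Odd (orderOf u) :=
  ((L.mem_iff _).1 hu).2

theorem commute (L : Local X q h k t O) {u v : X} (hu : u ∈ O) (hv : v ∈ O) : Commute u v :=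
  L.dat.commute_odd L.invol L.cc_t (L.le_cz hu) (L.odd_of_mem hu) (L.le_cz hv) (L.odd_of_mem hv)

theorem conj_mem (L : Local X q h k t O) {g u : X} (hg : g ∈ cz t) (hu : u ∈ O) : g * u * g⁻¹ ∈ O :=
  (L.mem_iff _).2 ⟨(cz t).mul_mem ((cz t).mul_mem hg (L.le_cz hu)) ((cz t).inv_mem hg), by
    rw [show g * u * g⁻¹ = MulAut.conj g u from rfl, MulEquiv.orderOf_eq]; exact L.odd_of_mem hu⟩

theorem odd_card (L : Local X q h k t O) : Odd (Nat.card ↥O) := by
  by_contra hev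
  rw [Nat.not_odd_iff_even, even_iff_two_dvd] at hev
  obtain ⟨⟨w, hw⟩, hw2⟩ := exists_prime_orderOf_dvd_card' (G := ↥O) 2 hev
  rw [orderOf_mk] at hw2
  exact absurd (L.odd_of_mem hw) (by rw [hw2]; decide)

theorem card_dvd (L : Local X q h k t O) : Nat.card ↥O ∣ k :=
  (Nat.coprime_two_right.2 L.odd_card).dvd_of_dvd_mul_left (L.cc_t ▸ card_dvd_of_le L.le_cz)

theorem half (L : Local X q h k t O) {d : X} (hd : d ∈ O) (hd1 : d ≠ 1) :
    Nat.card ↥(cz d) ≤ 2 * k ∧ k ≤ Nat.card ↥(cz t ⊓ cz d) := by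
  refine ⟨?_, ?_⟩
  · rcases L.dat.cc_of_mem L.cc_t hd1 (L.le_cz hd) with e | e <;>
      rw [show Nat.card ↥(cz d) = _ from e] <;> omega
  · have hc : Commute t d := (mem_cz.1 (L.le_cz hd)).symm
    have hco : (orderOf t).Coprime (orderOf d) := by
      rw [L.invol]; exact Nat.coprime_two_left.2 (L.odd_of_mem hd)
    have hne : t * d ≠ 1 := fun e => ne_one_of_orderOf_prime Nat.prime_two L.invol (by
      have h1 := mem_zpowers_mul hc hco
      rwa [e, zpowers_one_eq_bot, mem_bot] at h1)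
    rw [← cz_mul hc hco]
    rcases L.dat.cc_of_mem L.cc_t hne ((cz t).mul_mem (mem_cz.2 (Commute.refl t)) (L.le_cz hd)) with e | e <;>
      rw [show Nat.card ↥(cz (t * d)) = _ from e] <;> omega

theorem mem_of_commute (L : Local X q h k t O) {d u : X} (hd : d ∈ O) (hd1 : d ≠ 1)
    (hu : Commute u d) (huo : Odd (orderOf u)) : u ∈ O := by
  obtain ⟨h1, h2⟩ := L.half hd hd1
  have h3 := pow_two_mem_of_half (inf_le_right : cz t ⊓ cz d ≤ cz d) (by omega) (mem_cz.2 hu)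
  exact (L.mem_iff u).2 ⟨(mem_of_odd_of_sq huo h3).1, huo⟩

theorem tI (L : Local X q h k t O) {g d : X} (hd : d ∈ O) (hd1 : d ≠ 1) (hg : g * d * g⁻¹ ∈ O) :
    g ∈ normalizer (O : Set X) := by
  have key : ∀ g d : X, d ∈ O → d ≠ 1 → g * d * g⁻¹ ∈ O → ∀ u ∈ O, g * u * g⁻¹ ∈ O :=
    fun g d hd hd1 hg u hu => L.mem_of_commute hg (fun e => hd1 (conj_eq_one_iff.1 e))
      (commute_conj g (L.commute hu hd)) (by
        rw [show g * u * g⁻¹ = MulAut.conj g u from rfl, MulEquiv.orderOf_eq]; exact L.odd_of_mem hu)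
  refine mem_normalizer_iff.2 fun u => ⟨key g d hd hd1 hg u, fun hu => ?_⟩
  have h1 := key g⁻¹ (g * d * g⁻¹) hg (fun e => hd1 (conj_eq_one_iff.1 e))
    (by rwa [inv_inv, show g⁻¹ * (g * d * g⁻¹) * g = d by group]) _ hu
  rwa [inv_inv, show g⁻¹ * (g * u * g⁻¹) * g = u by group] at h1

theorem cz_le_normalizer (L : Local X q h k t O) : cz t ≤ normalizer (O : Set X) := fun g hg =>
  mem_normalizer_iff.2 fun u => ⟨L.conj_mem hg, fun hu => by
    have := L.conj_mem ((cz t).inv_mem hg) hu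
    rwa [inv_inv, show g⁻¹ * (g * u * g⁻¹) * g = u by group] at this⟩

theorem mem_of_normalizes (L : Local X q h k t O) {w : X} (hw : w ∈ normalizer (O : Set X))
    (hwo : Odd (orderOf w)) (hwd : orderOf w ∣ Nat.card ↥O) : w ∈ O := by
  by_contra hwO
  obtain ⟨r, hr, v, hv, hvr, hvO⟩ : ∃ r : ℕ, r.Prime ∧ ∃ v ∈ zpowers w, IsQ r v ∧ v ∉ O :=
    exists_isQ_not_mem fun h => hwO (h (mem_zpowers w))
  haveI : Fact r.Prime := ⟨hr⟩
  have hdvd : Nat.card ↥(zpowers w) ∣ Nat.card ↥O - 1 ∨ ∃ a ∈ zpowers w, a ≠ 1 ∧ ∃ u ∈ O, u ≠ 1 ∧ Commute u a := by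
    by_contra hcon
    push Not at hcon
    exact hcon.1 (card_dvd_pred (zpowers_le.2 hw) fun a ha ha1 u hu huc => by
      by_contra hu1
      exact hcon.2 a ha ha1 u hu hu1 huc)
  rcases hdvd with hd | ⟨a, ha, ha1, u, hu, hu1, huc⟩
  · rw [Nat.card_zpowers] at hd
    have h1 : orderOf w ∣ 1 := by
      have h2 := Nat.dvd_sub hwd hd
      have hpos := Nat.card_pos (α := ↥O)
      rwa [show Nat.card ↥O - (Nat.card ↥O - 1) = 1 by omega] at h2
    exact hwO (orderOf_eq_one_iff.1 (Nat.dvd_one.1 h1) ▸ O.one_mem)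
  · have haO : a ∈ O := L.mem_of_commute hu hu1 huc.symm (hwo.of_dvd_nat (orderOf_dvd_of_mem_zpowers ha))
    obtain ⟨i, rfl⟩ := mem_zpowers_iff.1 ha
    exact hwO (L.mem_of_commute haO ha1 (Commute.self_zpow w i) hwo)

theorem normalizer_eq (L : Local X q h k t O) : normalizer (O : Set X) = cz t := by
  set N := normalizer (O : Set X) with hN
  have hle := L.cz_le_normalizer
  have hk4 := L.dat.par.four
  obtain ⟨e, he⟩ : Nat.card ↥(cz t) ∣ Nat.card ↥N := card_dvd_of_le hle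
  rw [L.cc_t] at he
  have hidx : N.index * e = q * h := by
    have h1 := card_mul_index N
    rw [he, L.dat.card] at h1
    exact Nat.eq_of_mul_eq_mul_left (show 0 < 2 * k by omega) (by linear_combination h1)
  -- semiregular action on the other conjugates
  have hfree : Nat.card ↥O ∣ N.index - 1 := by
    letI act : MulAction ↥O {c : X ⧸ N // c ≠ ((1 : X) : X ⧸ N)} :=
      { smul := fun w c => ⟨(w : X) • (c : X ⧸ N), fun e' => c.2 (by
          have h1 : (c : X ⧸ N) = (w : X)⁻¹ • ((1 : X) : X ⧸ N) := eq_inv_smul_iff.2 e'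
          rw [h1]
          exact QuotientGroup.eq.2 (by simpa using (hle (L.le_cz w.2))))⟩
        one_smul := fun c => Subtype.ext (one_smul X (c : X ⧸ N))
        mul_smul := fun a b c => Subtype.ext (mul_smul (a : X) (b : X) (c : X ⧸ N)) }
    have hstab : ∀ c : {c : X ⧸ N // c ≠ ((1 : X) : X ⧸ N)}, MulAction.stabilizer ↥O c = ⊥ := by
      intro c
      refine (eq_bot_iff_forall _).2 fun w hw => ?_
      by_contra hw1
      obtain ⟨c, hc⟩ := c
      induction c using QuotientGroup.induction_on with | _ g => ?_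
      have h1 : ((w : X) * g : X ⧸ N) = (g : X ⧸ N) := congrArg Subtype.val (MulAction.mem_stabilizer_iff.1 hw)
      have h2 : g⁻¹ * ((w : X)⁻¹ * g) ∈ N := by simpa [mul_assoc] using QuotientGroup.eq.1 h1
      have hord : orderOf (g⁻¹ * ((w : X)⁻¹ * g)) = orderOf (w : X) := by
        rw [show g⁻¹ * ((w : X)⁻¹ * g) = MulAut.conj g⁻¹ (w : X)⁻¹ by simp [mul_assoc],
          MulEquiv.orderOf_eq, orderOf_inv]
      have h3 := L.mem_of_normalizes h2 (hord ▸ L.odd_of_mem w.2) (hord ▸ O.orderOf_dvd_natCard w.2)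
      refine hc (QuotientGroup.eq.2 ?_)
      rw [mul_one, inv_mem_iff]
      have h5 : g⁻¹ * (w : X)⁻¹ * g⁻¹⁻¹ ∈ O := by rwa [inv_inv, mul_assoc]
      exact inv_mem_iff.1 (L.tI (O.inv_mem w.2) (fun e' => hw1 (Subtype.ext (inv_eq_one.1 e'))) h5)
    have hcard := Nat.card_congr (MulAction.selfEquivOrbitsQuotientProd hstab)
    rw [Nat.card_prod] at hcard
    have h1 : Nat.card {c : X ⧸ N // c ≠ ((1 : X) : X ⧸ N)} = N.index - 1 := by
      rw [show {c : X ⧸ N // c ≠ ((1 : X) : X ⧸ N)} = ↥(({((1 : X) : X ⧸ N)} : Set (X ⧸ N))ᶜ) from rfl,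
        Nat.card_coe_set_eq, Set.ncard_compl, Set.ncard_singleton, index_eq_card]
    exact h1 ▸ Dvd.intro_left _ hcard.symm
  -- `e` is `1` modulo the order of `O`, and smaller
  obtain ⟨d, hd, hd1⟩ := (O.bot_or_exists_ne_one).resolve_left L.ne_bot
  have horb : (cz d).relIndex N ≤ Nat.card ↥O - 1 := by
    let f : ↥N ⧸ (cz d).subgroupOf N → ↥((O : Set X) \ {1}) :=
      fun c => ⟨(c.out : X) * d * (c.out : X)⁻¹, (mem_normalizer_iff.1 c.out.2 d).1 hd,
        fun e' => hd1 (conj_eq_one_iff.1 e')⟩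
    have hf : Function.Injective f := fun a b hab => by
      rw [← a.out_eq, ← b.out_eq]
      refine QuotientGroup.eq.2 (mem_subgroupOf.2 (mem_cz.2 ?_))
      have h' : (a.out : X) * d * (a.out : X)⁻¹ = (b.out : X) * d * (b.out : X)⁻¹ := congrArg Subtype.val hab
      show ((a.out : X)⁻¹ * (b.out : X)) * d = d * ((a.out : X)⁻¹ * (b.out : X))
      calc (a.out : X)⁻¹ * (b.out : X) * d
          = (a.out : X)⁻¹ * ((b.out : X) * d * (b.out : X)⁻¹) * (b.out : X) := by group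
        _ = d * ((a.out : X)⁻¹ * (b.out : X)) := by rw [← h']; group
    have := Nat.card_le_card_of_injective f hf
    rwa [Nat.card_coe_set_eq ((O : Set X) \ {1}), ncard_diff_one] at this
  have hle2 : e ≤ (cz d).relIndex N := by
    have h1 := card_mul_index ((cz d).subgroupOf N)
    rw [he] at h1
    have h2 : Nat.card ↥((cz d).subgroupOf N) ≤ 2 * k :=
      (Nat.card_le_card_of_injective (fun u : ↥((cz d).subgroupOf N) => (⟨(u : ↥N), u.2⟩ : ↥(cz d)))
        fun a b hab => Subtype.ext (Subtype.ext (congrArg Subtype.val hab :))).trans (L.half hd hd1).1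
    refine Nat.le_of_mul_le_mul_left (c := 2 * k) ?_ (by omega)
    calc 2 * k * e = Nat.card ↥((cz d).subgroupOf N) * ((cz d).subgroupOf N).index := h1.symm
      _ ≤ 2 * k * ((cz d).subgroupOf N).index := Nat.mul_le_mul_right _ h2
  have he1 : e = 1 := by
    have hqh : k ∣ q * h - 1 := by
      rcases L.dat.par.adj with e' | e' <;> rw [L.dat.par.eq, e']
      · obtain ⟨k', rfl⟩ : ∃ k', k = k' + 1 := ⟨k - 1, by omega⟩
        exact Dvd.intro (2 * k' + 5) (Nat.eq_sub_of_add_eq (by ring))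
      · have h3 := L.dat.par.three_le_h
        obtain ⟨h', rfl⟩ : ∃ h', h = h' + 1 := ⟨h - 1, by omega⟩
        exact Dvd.intro (2 * h' + 1) (Nat.eq_sub_of_add_eq (by ring))
    have he0 : e ≠ 0 := fun h0 => by rw [h0, mul_zero] at he; exact (Nat.card_pos (α := ↥N)).ne' he
    have hqh' : Nat.card ↥O ∣ q * h - 1 := L.card_dvd.trans hqh
    have hi0 : N.index ≠ 0 := index_ne_zero_of_finite
    have h1 : Nat.card ↥O ∣ (N.index - 1) * e := hfree.mul_right e
    rw [Nat.sub_mul, one_mul, hidx] at h1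
    have hge : e ≤ q * h := hidx ▸ Nat.le_mul_of_pos_left e (Nat.pos_of_ne_zero hi0)
    have h2 := Nat.dvd_sub hqh' h1
    rw [show q * h - 1 - (q * h - e) = e - 1 by omega] at h2
    rcases Nat.eq_zero_or_pos (e - 1) with h0 | hpos
    · omega
    · have := Nat.le_of_dvd hpos h2
      omega
  exact (eq_of_le_of_card_ge hle (by rw [L.cc_t, he, he1, mul_one])).symm

theorem tI' (L : Local X q h k t O) {g d : X} (hd : d ∈ O) (hd1 : d ≠ 1) (hg : g * d * g⁻¹ ∈ O) :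
    g ∈ cz t := L.normalizer_eq.le (L.tI hd hd1 hg)

/-- No element of `O` is centralised by all of `C(t)`. -/
theorem not_centralized (L : Local X q h k t O) {d : X} (hd : d ∈ O) (hd1 : d ≠ 1) : ¬ cz t ≤ cz d := by
  intro hle
  obtain ⟨r, hr, w, hw, hwr⟩ := exists_prime_pow_power hd1
  haveI : Fact r.Prime := ⟨hr⟩
  have hwO : w ∈ O := zpowers_le.2 hd hw
  have hw1 := ne_one_of_orderOf_prime hr hwr
  obtain ⟨A, hA, hAp, hAi⟩ := ThreeSizes.exists_sylow_in r O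
  have hrO : r ∣ Nat.card ↥O := hwr ▸ O.orderOf_dvd_natCard hwO
  have hr2 : r ≠ 2 := fun e => Nat.two_dvd_ne_zero.2 (Nat.odd_iff.1 L.odd_card) (e ▸ hrO)
  have hAx : ¬ r ∣ A.index := by
    rw [← relIndex_mul_index hA]
    refine hr.not_dvd_mul hAi fun hdvd => ?_
    rw [← relIndex_mul_index L.le_cz] at hdvd
    rcases hr.dvd_mul.1 hdvd with h' | h'
    · -- a Sylow subgroup of `C(t)` for an odd prime consists of elements of odd order
      obtain ⟨B, hB, hBp, hBi⟩ := ThreeSizes.exists_sylow_in r (cz t)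
      refine hBi (h'.trans (relIndex_dvd_of_le_left _ fun b hb => (L.mem_iff b).2 ⟨hB hb, ?_⟩))
      obtain ⟨i, hi⟩ := (IsQ.of_mem hBp hb).orderOf_eq hr
      rw [hi]
      exact (hr.odd_of_ne_two hr2).pow
    · have h1 := card_mul_index (cz t)
      rw [L.cc_t, L.dat.card, mul_comm (q * h)] at h1
      rw [Nat.eq_of_mul_eq_mul_left (by have := L.dat.par.four; omega) h1] at h'
      exact hr.not_dvd_one ((Nat.Coprime.mul_right L.dat.par.cop_q2k.symm L.dat.par.cop_h2k.symm).gcd_eq_one ▸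
        Nat.dvd_gcd ((hrO.trans L.card_dvd).mul_left 2) h')
  have hwA : w ∈ A := by
    obtain ⟨g, hg⟩ := exists_conj_mem_sylow (isQ_of_orderOf hwr) (hAp.toSylow hAx)
    have hgc : g ∈ cz t := L.tI' hwO hw1 (hA hg)
    have he : g * w * g⁻¹ = w := by
      rw [(mem_cz.1 (le_cz_of_mem_zpowers hw (hle hgc))).eq, mul_inv_cancel_right]
    exact he ▸ hg
  haveI hAc : IsMulCommutative ↥A := ⟨⟨fun a b => Subtype.ext (L.commute (hA a.2) (hA b.2)).eq⟩⟩
  have key : ∀ (j : ℕ) (g₀ : X), g₀⁻¹ * w ^ j * g₀ ∈ A → g₀⁻¹ * w ^ j * g₀ = w ^ j := by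
    intro j g₀ hg
    by_cases hj : w ^ j = 1
    · rw [hj]; group
    have hgc : g₀⁻¹ ∈ cz t := L.tI' (pow_mem hwO j) hj (by rw [inv_inv]; exact hA hg)
    have hcomm : Commute g₀⁻¹ (w ^ j) := (mem_cz.1 (le_cz_of_mem_zpowers hw (hle hgc))).pow_right j
    rw [hcomm.eq, inv_mul_cancel_right]
  haveI : IsMulCommutative ↥A := hAc
  open scoped IsMulCommutative in
  have h1 := MonoidHom.transfer_eq_pow (MonoidHom.id ↥A) w key
  open scoped IsMulCommutative in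
  have h2 : MonoidHom.transfer (MonoidHom.id ↥A) w = 1 :=
    Abelianization.commutator_subset_ker _ (L.dat.perfect ▸ mem_top w)
  rw [h2, MonoidHom.id_apply] at h1
  have h3 : w ^ A.index = 1 := by
    have := congrArg (Subtype.val : ↥A → X) h1
    simpa using this.symm
  rw [← orderOf_dvd_iff_pow_eq_one, hwr] at h3
  exact hAx h3

/-- The centraliser in `C(t)` of the odd part. -/
theorem exists_kernel (L : Local X q h k t O) :
    ∃ M : Subgroup X, M ≤ cz t ∧ Nat.card ↥M = k ∧ ∀ d ∈ O, d ≠ 1 → cz d = M := by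
  obtain ⟨d₀, hd₀, hd₀1⟩ := (O.bot_or_exists_ne_one).resolve_left L.ne_bot
  have hk4 := L.dat.par.four
  have hcardM : ∀ d ∈ O, d ≠ 1 → Nat.card ↥(cz t ⊓ cz d) = k := by
    intro d hd hd1
    obtain ⟨-, h2⟩ := L.half hd hd1
    obtain ⟨m, hm⟩ := card_dvd_of_le (inf_le_left : cz t ⊓ cz d ≤ cz t)
    rw [L.cc_t] at hm
    have hm2 : m ≠ 1 := fun e => L.not_centralized hd hd1 (by
      have h3 : cz t ⊓ cz d = cz t := eq_of_le_of_card_ge inf_le_left (by rw [L.cc_t, hm, e, mul_one])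
      exact h3 ▸ inf_le_right)
    have hm0 : m ≠ 0 := fun e => by rw [e, mul_zero] at hm; omega
    have h4 : Nat.card ↥(cz t ⊓ cz d) * 2 ≤ 2 * k := hm ▸ Nat.mul_le_mul_left _ (by omega)
    omega
  have hnorm : ∀ d ∈ O, d ≠ 1 → ((cz t ⊓ cz d).subgroupOf (cz t)).index = 2 := by
    intro d hd hd1
    have h1 := card_mul_index ((cz t ⊓ cz d).subgroupOf (cz t))
    rw [Nat.card_congr (subgroupOfEquivOfLe inf_le_left).toEquiv, hcardM d hd hd1, L.cc_t, mul_comm 2] at h1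
    exact Nat.eq_of_mul_eq_mul_left (by omega) h1
  have hsame : ∀ d ∈ O, d ≠ 1 → cz t ⊓ cz d = cz t ⊓ cz d₀ := by
    intro d hd hd1
    by_contra hne
    have hne' : ∀ a b : X, a ∈ O → a ≠ 1 → b ∈ O → b ≠ 1 → cz t ⊓ cz a ≠ cz t ⊓ cz b →
        ∃ s, s ∈ cz t ∧ s ∈ cz a ∧ s ∉ cz b := by
      intro a b ha ha1 hb hb1 hab
      by_contra hcon
      push Not at hcon
      exact hab (eq_of_le_of_card_ge (fun v hv => ⟨hv.1, hcon v hv.1 hv.2⟩)
        (by rw [hcardM a ha ha1, hcardM b hb hb1]))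
    obtain ⟨s, hsC, hs1, hs2⟩ := hne' d d₀ hd hd1 hd₀ hd₀1 hne
    obtain ⟨s', hs'C, hs'2, hs'1⟩ := hne' d₀ d hd₀ hd₀1 hd hd1 (Ne.symm hne)
    have hp1 : d * d₀ ≠ 1 := fun e => hs'1 (by
      rw [eq_inv_of_mul_eq_one_left e]; exact mem_cz.2 (mem_cz.1 hs'2).inv_right)
    have hpO : d * d₀ ∈ O := O.mul_mem hd hd₀
    have hfix : ∀ {x g : X}, g * x * g⁻¹ = x → g ∈ cz x := fun e => mem_cz.2 (mul_inv_eq_iff_eq_mul.1 e)
    have hfix' : ∀ {x g : X}, g ∈ cz x → g * x * g⁻¹ = x := fun hg => by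
      rw [(mem_cz.1 hg).eq, mul_inv_cancel_right]
    have hns : s ∉ cz (d * d₀) := fun hs => hs2 (hfix (mul_left_cancel (a := d) (by
      calc d * (s * d₀ * s⁻¹) = (s * d * s⁻¹) * (s * d₀ * s⁻¹) := by rw [hfix' hs1]
        _ = s * (d * d₀) * s⁻¹ := by group
        _ = d * d₀ := hfix' hs)))
    have hns' : s' ∉ cz (d * d₀) := fun hs => hs'1 (hfix (mul_right_cancel (b := d₀) (by
      calc (s' * d * s'⁻¹) * d₀ = (s' * d * s'⁻¹) * (s' * d₀ * s'⁻¹) := by rw [hfix' hs'2]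
        _ = s' * (d * d₀) * s'⁻¹ := by group
        _ = d * d₀ := hfix' hs)))
    have hss : s * s' ∈ cz (d * d₀) := by
      have h1 := mul_mem_iff_of_index_two (hnorm _ hpO hp1) (a := (⟨s, hsC⟩ : ↥(cz t)))
        (b := (⟨s', hs'C⟩ : ↥(cz t)))
      simp only [mem_subgroupOf, Subgroup.coe_mul, Subgroup.mem_inf] at h1
      exact (h1.2 ⟨fun hh => absurd hh.2 hns, fun hh => absurd hh.2 hns'⟩).2
    -- `s'` is fixed by `s` on `d`
    have hs'd : s * (s' * d * s'⁻¹) * s⁻¹ = s' * d * s'⁻¹ := by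
      haveI := normal_of_index_eq_two (hnorm d hd hd1)
      have h1 : s'⁻¹ * s * s' ∈ cz d := by
        have h2 := Subgroup.Normal.conj_mem inferInstance (⟨s, hsC⟩ : ↥(cz t))
          (show (⟨s, hsC⟩ : ↥(cz t)) ∈ (cz t ⊓ cz d).subgroupOf (cz t) from
            mem_subgroupOf.2 ⟨hsC, hs1⟩) ⟨s'⁻¹, (cz t).inv_mem hs'C⟩
        simpa [mem_subgroupOf] using (mem_subgroupOf.1 h2).2
      calc s * (s' * d * s'⁻¹) * s⁻¹ = s' * ((s'⁻¹ * s * s') * d * (s'⁻¹ * s * s')⁻¹) * s'⁻¹ := by group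
        _ = s' * d * s'⁻¹ := by rw [hfix' h1]
    have hsd₀ : s' * (s * d₀ * s⁻¹) * s'⁻¹ = s * d₀ * s⁻¹ := by
      haveI := normal_of_index_eq_two (hnorm d₀ hd₀ hd₀1)
      have h1 : s⁻¹ * s' * s ∈ cz d₀ := by
        have h2 := Subgroup.Normal.conj_mem inferInstance (⟨s', hs'C⟩ : ↥(cz t))
          (show (⟨s', hs'C⟩ : ↥(cz t)) ∈ (cz t ⊓ cz d₀).subgroupOf (cz t) from
            mem_subgroupOf.2 ⟨hs'C, hs'2⟩) ⟨s⁻¹, (cz t).inv_mem hsC⟩
        simpa [mem_subgroupOf] using (mem_subgroupOf.1 h2).2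
      calc s' * (s * d₀ * s⁻¹) * s'⁻¹ = s * ((s⁻¹ * s' * s) * d₀ * (s⁻¹ * s' * s)⁻¹) * s⁻¹ := by group
        _ = s * d₀ * s⁻¹ := by rw [hfix' h1]
    have hprod : (s' * d * s'⁻¹) * (s * d₀ * s⁻¹) = d * d₀ := by
      calc (s' * d * s'⁻¹) * (s * d₀ * s⁻¹)
          = (s * (s' * d * s'⁻¹) * s⁻¹) * (s * (s' * d₀ * s'⁻¹) * s⁻¹) := by rw [hs'd, hfix' hs'2]
        _ = s * s' * (d * d₀) * (s * s')⁻¹ := by group
        _ = d * d₀ := hfix' hss
    -- both sides of the resulting equation are centralised by `s` and `s'`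
    have heq : s * d₀ * s⁻¹ * d₀⁻¹ = (s' * d * s'⁻¹)⁻¹ * d := by
      rw [eq_inv_mul_iff_mul_eq, ← mul_assoc, hprod, mul_inv_cancel_right]
    have hbO : s * d₀ * s⁻¹ * d₀⁻¹ ∈ O := O.mul_mem (L.conj_mem hsC hd₀) (O.inv_mem hd₀)
    by_cases hb : s * d₀ * s⁻¹ * d₀⁻¹ = 1
    · exact hs2 (hfix (mul_inv_eq_one.1 hb))
    have hbs' : s' ∈ cz (s * d₀ * s⁻¹ * d₀⁻¹) := hfix (by
      calc s' * (s * d₀ * s⁻¹ * d₀⁻¹) * s'⁻¹
          = (s' * (s * d₀ * s⁻¹) * s'⁻¹) * (s' * d₀ * s'⁻¹)⁻¹ := by group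
        _ = s * d₀ * s⁻¹ * d₀⁻¹ := by rw [hsd₀, hfix' hs'2])
    have hbs : s ∈ cz (s * d₀ * s⁻¹ * d₀⁻¹) := by
      rw [heq]
      exact hfix (by
        calc s * ((s' * d * s'⁻¹)⁻¹ * d) * s⁻¹
            = (s * (s' * d * s'⁻¹) * s⁻¹)⁻¹ * (s * d * s⁻¹) := by group
          _ = (s' * d * s'⁻¹)⁻¹ * d := by rw [hs'd, hfix' hs1])
    have hsM : cz t ⊓ cz (s * d₀ * s⁻¹ * d₀⁻¹) = cz t ⊓ cz d₀ := by
      have hle : cz t ⊓ cz d₀ ≤ cz t ⊓ cz (s * d₀ * s⁻¹ * d₀⁻¹) := fun v hv => ⟨hv.1, by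
        haveI := normal_of_index_eq_two (hnorm d₀ hd₀ hd₀1)
        have h2 := Subgroup.Normal.conj_mem inferInstance (⟨v, hv.1⟩ : ↥(cz t))
          (show (⟨v, hv.1⟩ : ↥(cz t)) ∈ (cz t ⊓ cz d₀).subgroupOf (cz t) from
            mem_subgroupOf.2 hv) ⟨s⁻¹, (cz t).inv_mem hsC⟩
        have h3 : s⁻¹ * v * s ∈ cz d₀ := by simpa [mem_subgroupOf] using (mem_subgroupOf.1 h2).2
        exact hfix (by
          calc v * (s * d₀ * s⁻¹ * d₀⁻¹) * v⁻¹
              = (s * ((s⁻¹ * v * s) * d₀ * (s⁻¹ * v * s)⁻¹) * s⁻¹) * (v * d₀ * v⁻¹)⁻¹ := by group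
            _ = s * d₀ * s⁻¹ * d₀⁻¹ := by rw [hfix' h3, hfix' hv.2])⟩
      exact (eq_of_le_of_card_ge hle (by rw [hcardM _ hd₀ hd₀1, hcardM _ hbO hb])).symm
    exact hs2 (hsM.le ⟨hsC, hbs⟩).2
  refine ⟨cz t ⊓ cz d₀, inf_le_left, hcardM d₀ hd₀ hd₀1, fun d hd hd1 => ?_⟩
  rw [← hsame d hd hd1]
  refine (inf_eq_right.2 fun g hg => L.tI' hd hd1 ?_).symm
  rw [(mem_cz.1 hg).eq, mul_inv_cancel_right]
  exact hd

/-- The data of the kernel `M`. -/
structure Kernel (t : X) (O M : Subgroup X) : Prop where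
  le : M ≤ cz t
  eq_cz : ∀ d ∈ O, d ≠ 1 → cz d = M
  le_O : O ≤ M
  mem_t : t ∈ M
  comm : ∀ a ∈ M, ∀ b ∈ M, Commute a b

theorem kernel (L : Local X q h k t O) {M : Subgroup X} (hM : M ≤ cz t) (hMk : Nat.card ↥M = k)
    (hcz : ∀ d ∈ O, d ≠ 1 → cz d = M) : Kernel t O M := by
  obtain ⟨d, hd, hd1⟩ := (O.bot_or_exists_ne_one).resolve_left L.ne_bot
  have hOM : O ≤ M := fun u hu => hcz d hd hd1 ▸ mem_cz.2 (L.commute hu hd)
  have htM : t ∈ M := hcz d hd hd1 ▸ mem_cz.2 (mem_cz.1 (L.le_cz hd)).symm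
  refine ⟨hM, hcz, hOM, htM, fun a ha b hb => ?_⟩
  have hcen : M ≤ centralizer (M : Set X) := le_of_forall_isQ fun r hr v hv hvr =>
    mem_centralizer_iff.2 fun u hu => by
      by_cases hr2 : r = 2
      swap
      · obtain ⟨i, hi⟩ := hvr.orderOf_eq hr
        have hvO : v ∈ O := (L.mem_iff v).2 ⟨hM hv, by rw [hi]; exact (hr.odd_of_ne_two hr2).pow⟩
        by_cases hv1 : v = 1
        · rw [hv1, mul_one, one_mul]
        exact (mem_cz.1 ((hcz v hvO hv1).symm ▸ hu : u ∈ cz v)).eq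
      subst hr2
      have hc : Commute v d := mem_cz.1 ((hcz d hd hd1).symm ▸ hv : v ∈ cz d)
      obtain ⟨i, hi⟩ := hvr.orderOf_eq Nat.prime_two
      have hco : (orderOf v).Coprime (orderOf d) := by
        rw [hi]; exact (Nat.coprime_two_left.2 (L.odd_of_mem hd)).pow_left i
      have hle := cz_mul hc hco
      rw [hcz d hd hd1] at hle
      have hne : v * d ≠ 1 := fun e => hd1 (by
        have h1 := mem_zpowers_mul hc.symm hco.symm
        rwa [← hc.eq, e, zpowers_one_eq_bot, mem_bot] at h1)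
      have hcard : k ≤ Nat.card ↥(cz (v * d)) := by
        rcases L.dat.cc_of_mem L.cc_t hne ((cz t).mul_mem (hM hv) (hM (hOM hd))) with e | e <;>
          rw [show Nat.card ↥(cz (v * d)) = _ from e] <;> omega
      rw [hle] at hcard
      have h1 : cz v ⊓ M = M := eq_of_le_of_card_ge inf_le_right (hMk ▸ hcard)
      exact (mem_cz.1 (h1.ge hu).1).eq
  exact mem_centralizer_iff.1 (hcen hb) a ha

variable {M : Subgroup X}

theorem cz_le_of_mem (L : Local X q h k t O) (K : Kernel t O M) (hMk : Nat.card ↥M = k) {m : X}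
    (hm : m ∈ M) (hm1 : m ≠ 1) : M ≤ cz m ∧ cz m ≤ cz t := by
  have hle : M ≤ cz m := fun u hu => mem_cz.2 (K.comm u hu m hm)
  refine ⟨hle, fun g hg => ?_⟩
  obtain ⟨d, hd, hd1⟩ := (O.bot_or_exists_ne_one).resolve_left L.ne_bot
  have hc : Nat.card ↥(cz m) ≤ 2 * Nat.card ↥M := by
    rcases L.dat.cc_of_mem L.cc_t hm1 (K.le hm) with e | e <;>
      rw [show Nat.card ↥(cz m) = _ from e, hMk] <;> omega
  refine L.tI' hd hd1 ((L.mem_iff _).2 ⟨K.le ?_, ?_⟩)
  · have h1 : g * d * g⁻¹ ∈ cz m := (cz m).mul_mem ((cz m).mul_mem hg (hle (K.le_O hd))) ((cz m).inv_mem hg)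
    refine mem_of_odd_of_sq ?_ (pow_two_mem_of_half hle hc h1)
    rw [show g * d * g⁻¹ = MulAut.conj g d from rfl, MulEquiv.orderOf_eq]
    exact L.odd_of_mem hd
  · rw [show g * d * g⁻¹ = MulAut.conj g d from rfl, MulEquiv.orderOf_eq]
    exact L.odd_of_mem hd

theorem conj_mem_kernel (L : Local X q h k t O) (K : Kernel t O M) {g m : X} (hg : g ∈ cz t)
    (hm : m ∈ M) : g * m * g⁻¹ ∈ M := by
  obtain ⟨d, hd, hd1⟩ := (O.bot_or_exists_ne_one).resolve_left L.ne_bot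
  rw [← K.eq_cz _ (L.conj_mem hg hd) (fun e => hd1 (conj_eq_one_iff.1 e))]
  exact mem_cz.2 (commute_conj g (mem_cz.1 ((K.eq_cz d hd hd1).symm ▸ hm : m ∈ cz d)))

theorem tI_kernel (L : Local X q h k t O) (K : Kernel t O M) (hMk : Nat.card ↥M = k) {g a : X}
    (ha : a ∈ M) (ha1 : a ≠ 1) (hg : g * a * g⁻¹ ∈ M) : g ∈ cz t := by
  obtain ⟨d, hd, hd1⟩ := (O.bot_or_exists_ne_one).resolve_left L.ne_bot
  have hga1 : g * a * g⁻¹ ≠ 1 := fun e => ha1 (conj_eq_one_iff.1 e)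
  have h1 : g * d * g⁻¹ ∈ cz (g * a * g⁻¹) :=
    mem_cz.2 (commute_conj g (mem_cz.1 ((L.cz_le_of_mem K hMk ha ha1).1 (K.le_O hd))))
  refine L.tI' hd hd1 ((L.mem_iff _).2 ⟨(L.cz_le_of_mem K hMk hg hga1).2 h1, ?_⟩)
  rw [show g * d * g⁻¹ = MulAut.conj g d from rfl, MulEquiv.orderOf_eq]
  exact L.odd_of_mem hd

theorem exists_conj_kernel (L : Local X q h k t O) (K : Kernel t O M) (hMk : Nat.card ↥M = k) {x : X}
    (hx : x ∈ cz t) (hx1 : x ≠ 1) : ∃ g : X, g * x * g⁻¹ ∈ M := by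
  have hcount := ncard_conj_union ((M : Set X) \ {1}) (cz t)
    (fun g hg a ha => ⟨L.conj_mem_kernel K hg ha.1, fun e => ha.2 (conj_eq_one_iff.1 e)⟩)
    (fun g a ha hg => L.tI_kernel K hMk ha.1 ha.2 hg.1)
  rw [ncard_diff_one, hMk] at hcount
  have hidx : (cz t).index = q * h := by
    have h1 := card_mul_index (cz t)
    rw [L.cc_t, L.dat.card, mul_comm (q * h)] at h1
    exact Nat.eq_of_mul_eq_mul_left (by have := L.dat.par.four; omega) h1
  have hsub : {y | ∃ g : X, ∃ a ∈ (M : Set X) \ {1}, g * a * g⁻¹ = y} ⊆ iSet X k := by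
    rintro _ ⟨g, a, ⟨ha, ha1⟩, rfl⟩
    exact mem_iSet.2 ⟨fun e => ha1 (conj_eq_one_iff.1 e), by
      rw [cc_conj]; exact L.dat.cc_of_mem L.cc_t ha1 (K.le ha)⟩
  have heq := Set.eq_of_subset_of_ncard_le hsub (by
    rw [L.dat.counts.2.2, hcount, hidx, mul_comm]) (Set.toFinite _)
  obtain ⟨g, a, ⟨ha, -⟩, hga⟩ := heq.ge (mem_iSet.2 ⟨hx1, L.dat.cc_of_mem L.cc_t hx1 hx⟩)
  exact ⟨g⁻¹, by rw [← hga, show g⁻¹ * (g * a * g⁻¹) * g⁻¹⁻¹ = a by group]; exact ha⟩

theorem outside (L : Local X q h k t O) (K : Kernel t O M) (hMk : Nat.card ↥M = k) {s : X}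
    (hs : s ∈ cz t) (hsM : s ∉ M) :
    s * s = 1 ∧ ∀ m ∈ M, Commute m s → m = 1 ∨ m = t := by
  have hs1 : s ≠ 1 := fun e => hsM (e ▸ M.one_mem)
  obtain ⟨g, hg⟩ := L.exists_conj_kernel K hMk hs hs1
  have hgs1 : g * s * g⁻¹ ≠ 1 := fun e => hs1 (conj_eq_one_iff.1 e)
  have hhalf : Nat.card ↥(cz t) ≤ 2 * Nat.card ↥M := by rw [L.cc_t, hMk]
  have hgC : g ∉ cz t := fun hgc => hsM (by
    have := L.conj_mem_kernel K ((cz t).inv_mem hgc) hg
    rwa [inv_inv, show g⁻¹ * (g * s * g⁻¹) * g = s by group] at this)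
  have hdisj : ∀ m ∈ M, g * m * g⁻¹ ∈ M → m = 1 := fun m hm hgm => by
    by_contra hm1
    exact hgC (L.tI_kernel K hMk hm hm1 hgm)
  have hss : s * s = 1 := by
    refine hdisj _ (pow_two_mem_of_half K.le hhalf hs) ?_
    rw [show g * (s * s) * g⁻¹ = (g * s * g⁻¹) * (g * s * g⁻¹) by group]
    exact M.mul_mem hg hg
  refine ⟨hss, fun m hm hc => ?_⟩
  by_contra hcon
  push Not at hcon
  have hin : ∀ v ∈ M, Commute v s → g * v * g⁻¹ ∈ cz t := fun v _ hv =>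
    (L.cz_le_of_mem K hMk hg hgs1).2 (mem_cz.2 (commute_conj g hv))
  have hout : ∀ v ∈ M, v ≠ 1 → g * v * g⁻¹ ∉ M := fun v hv hv1 hgv => hv1 (hdisj v hv hgv)
  have ht1 := ne_one_of_orderOf_prime Nat.prime_two L.invol
  have h2 : ((M.subgroupOf (cz t))).index = 2 := by
    have h1 := card_mul_index (M.subgroupOf (cz t))
    rw [Nat.card_congr (subgroupOfEquivOfLe K.le).toEquiv, hMk, L.cc_t, mul_comm 2] at h1
    exact Nat.eq_of_mul_eq_mul_left (by have := L.dat.par.four; omega) h1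
  have hts : Commute t s := (mem_cz.1 hs).symm
  have h3 := mul_mem_iff_of_index_two h2 (a := (⟨g * m * g⁻¹, hin m hm hc⟩ : ↥(cz t)))
    (b := (⟨g * t * g⁻¹, hin t K.mem_t hts⟩ : ↥(cz t)))
  simp only [mem_subgroupOf, Subgroup.coe_mul] at h3
  have h4 : g * (m * t) * g⁻¹ ∈ M := by
    rw [show g * (m * t) * g⁻¹ = (g * m * g⁻¹) * (g * t * g⁻¹) by group]
    exact h3.2 ⟨fun hh => absurd hh (hout m hm hcon.1), fun hh => absurd hh (hout t K.mem_t ht1)⟩
  have h5 := hdisj _ (M.mul_mem hm K.mem_t) h4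
  refine hcon.2 ?_
  rw [eq_inv_of_mul_eq_one_left h5, inv_eq_of_mul_eq_one_right]
  rw [← sq, ← L.invol, pow_orderOf_eq_one]

theorem inverts (L : Local X q h k t O) (K : Kernel t O M) (hMk : Nat.card ↥M = k) {s : X}
    (hs : s ∈ cz t) (hsM : s ∉ M) {m : X} (hm : m ∈ M) : s * m * s⁻¹ = m⁻¹ := by
  obtain ⟨hss, -⟩ := L.outside K hMk hs hsM
  obtain ⟨h2, -⟩ := L.outside K hMk ((cz t).mul_mem hs (K.le hm)) (fun hh => hsM (by
    simpa using M.mul_mem hh (M.inv_mem hm)))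
  rw [inv_eq_of_mul_eq_one_right hss]
  exact eq_inv_of_mul_eq_one_left (by rw [show s * m * s * m = (s * m) * (s * m) by group, h2])

theorem psl (L : Local X q h k t O) {S : Sylow 2 X} (htS : t ∈ (S : Subgroup X))
    (hSt : (S : Subgroup X) ≤ cz t) {F : Type*} [Field F] [Fintype F] (hq : Fintype.card F = q) :
    Nonempty (X ≃* Matrix.ProjectiveSpecialLinearGroup (Fin 2) F) := by
  haveI : Fact (Nat.Prime 2) := ⟨Nat.prime_two⟩
  obtain ⟨M, hM, hMk, hcz⟩ := L.exists_kernel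
  have K := L.kernel hM hMk hcz
  obtain ⟨d, hd, hd1⟩ := (O.bot_or_exists_ne_one).resolve_left L.ne_bot
  have hk4 := L.dat.par.four
  have hnle : ¬ (S : Subgroup X) ≤ M := fun hle => by
    have h1 := card_dvd_of_le hle
    rw [hMk] at h1
    have h2 : 2 * Nat.card ↥(S : Subgroup X) ∣ Nat.card X := by
      rw [L.dat.card]
      exact (Nat.mul_dvd_mul_left 2 h1).trans (dvd_mul_left _ _)
    have h3 := card_mul_index (S : Subgroup X)
    rw [← h3, mul_comm 2] at h2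
    exact S.not_dvd_index (Nat.dvd_of_mul_dvd_mul_left Nat.card_pos h2)
  obtain ⟨s, hs, hsM⟩ := SetLike.not_le_iff_exists.1 hnle
  set A := (S : Subgroup X) ⊓ M with hA
  have hAidx : (A.subgroupOf (S : Subgroup X)).index = 2 := by
    refine index_eq_two_iff.2 ⟨⟨s, hs⟩, fun b => ?_⟩
    simp only [mem_subgroupOf, Subgroup.coe_mul, A, Subgroup.mem_inf]
    have hidx : (M.subgroupOf (cz t)).index = 2 := by
      have h1 := card_mul_index (M.subgroupOf (cz t))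
      rw [Nat.card_congr (subgroupOfEquivOfLe K.le).toEquiv, hMk, L.cc_t, mul_comm 2] at h1
      exact Nat.eq_of_mul_eq_mul_left (by omega) h1
    have h1 := mul_mem_iff_of_index_two hidx (a := (⟨(b : X), hSt b.2⟩ : ↥(cz t)))
      (b := (⟨s, hSt hs⟩ : ↥(cz t)))
    simp only [mem_subgroupOf, Subgroup.coe_mul] at h1
    by_cases hb : (b : X) ∈ M
    · exact Or.inr ⟨⟨b.2, hb⟩, fun hh => hsM ((h1.1 hh.2).1 hb)⟩
    · exact Or.inl ⟨⟨(S : Subgroup X).mul_mem b.2 hs, h1.2 ⟨fun hh => absurd hh hb,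
        fun hh => absurd hh hsM⟩⟩, fun hh => hb hh.2⟩
  have hAcyc : IsCyclic ↥A := by
    refine isCyclic_of_unique_involution (S.2.to_le inf_le_left) (fun x hx y hy => K.comm x hx.2 y hy.2) ?_
    have key : ∀ x ∈ A, orderOf x = 2 → x = t := fun x hx hx2 => by
      have hxx : x⁻¹ = x := inv_eq_of_mul_eq_one_right (by rw [← sq, ← hx2, pow_orderOf_eq_one])
      have h1 := L.inverts K hMk (hSt hs) hsM hx.2
      rw [hxx] at h1
      exact ((L.outside K hMk (hSt hs) hsM).2 x hx.2 (mul_inv_eq_iff_eq_mul.1 h1).symm).resolve_left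
        (ne_one_of_orderOf_prime Nat.prime_two hx2)
    exact fun x hx y hy hx2 hy2 => (key x hx hx2).trans (key y hy hy2).symm
  -- the Sylow subgroup is dihedral
  haveI : IsCyclic ↥(A.subgroupOf (S : Subgroup X)) :=
    (subgroupOfEquivOfLe (inf_le_left : A ≤ (S : Subgroup X))).isCyclic.2 hAcyc
  obtain ⟨eS⟩ := nonempty_dihedral (A.subgroupOf (S : Subgroup X)) (s := ⟨s, hs⟩)
    (fun hh => hsM hh.2) (Subtype.ext (L.outside K hMk (hSt hs) hsM).1) hAidx
    (fun a ha => Subtype.ext (L.inverts K hMk (hSt hs) hsM ha.2))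
  have hn : 2 ≤ Nat.card ↥(A.subgroupOf (S : Subgroup X)) := by
    refine (A.subgroupOf (S : Subgroup X)).one_lt_card_iff_ne_bot.2 fun e =>
      ne_one_of_orderOf_prime Nat.prime_two L.invol ?_
    exact congrArg Subtype.val (mem_bot.1 (e.le
      (show (⟨t, htS⟩ : ↥(S : Subgroup X)) ∈ A.subgroupOf (S : Subgroup X) from ⟨htS, K.mem_t⟩)))
  have hcent : (S : Subgroup X) ⊓ centralizer (O : Set X) = A := by
    ext v
    refine ⟨fun hv => ⟨hv.1, K.eq_cz d hd hd1 ▸ mem_cz.2 (mem_centralizer_iff.1 hv.2 d hd).symm⟩,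
      fun hv => ⟨hv.1, mem_centralizer_iff.2 fun u hu => ?_⟩⟩
    by_cases hu1 : u = 1
    · rw [hu1, mul_one, one_mul]
    exact (mem_cz.1 ((K.eq_cz u hu hu1).symm ▸ hv.2 : v ∈ cz u)).eq.symm
  haveI := L.dat.isSimpleGroup
  have hOcore : O = (Cfsg.oddCore ↥(cz t)).map (cz t).subtype := by
    haveI : (O.subgroupOf (cz t)).Normal := ⟨fun a ha g => mem_subgroupOf.2 (by
      simpa using L.conj_mem g.2 (mem_subgroupOf.1 ha))⟩
    have hodd : Odd (Nat.card ↥(O.subgroupOf (cz t))) := by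
      rw [Nat.card_congr (subgroupOfEquivOfLe L.le_cz).toEquiv]
      exact L.odd_card
    refine le_antisymm ?_ ?_
    · intro u hu
      exact ⟨⟨u, L.le_cz hu⟩, Cores.le_oddCore hodd
        (mem_subgroupOf.2 hu : (⟨u, L.le_cz hu⟩ : ↥(cz t)) ∈ O.subgroupOf (cz t)), rfl⟩
    · rintro _ ⟨u, hu, rfl⟩
      refine (L.mem_iff _).2 ⟨u.2, ?_⟩
      show Odd (orderOf (u : X))
      rw [Subgroup.orderOf_coe]
      exact (Cores.odd_card_oddCore (G := ↥(cz t))).of_dvd_nat ((Cfsg.oddCore _).orderOf_dvd_natCard hu)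
  obtain ⟨F', hF', hFt', hodd, ⟨e⟩⟩ := S0508.result S _ hn ⟨eS⟩ t L.invol htS
    (fun v hv => (mem_cz.1 (hSt hv)).eq) O hOcore
    (fun _ => by rw [hcent]; exact ⟨hAcyc, hAidx⟩)
    (fun v hv hvC y hy => L.inverts K hMk (hSt hv) (fun hh => hvC (hcent.ge ⟨hv, hh⟩).2) (K.le_O hy))
    (fun Y hY hY1 g hg => by
      obtain ⟨y, hy, hy1⟩ := Y.bot_or_exists_ne_one.resolve_left hY1
      exact L.tI' (hY hy) hy1 (hY ((mem_normalizer_iff.1 hg y).1 hy)))
  exact L.dat.of_iso hq hodd e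

end Local

/-- A group of the order and class sizes of `PSL(2, q)`, `q` odd, is `PSL(2, q)`. -/
theorem psl (D : OddX X q h k) {F : Type*} [Field F] [Fintype F] (hq : Fintype.card F = q) :
    Nonempty (X ≃* Matrix.ProjectiveSpecialLinearGroup (Fin 2) F) := by
  by_cases hk : ∃ a : ℕ, k = 2 ^ a
  · obtain ⟨a, ha⟩ := hk
    exact D.psl_of_two_pow hq ha
  · push Not at hk
    obtain ⟨S, t, O, htS, hSt, L⟩ := D.exists_local hk
    exact L.psl htS hSt hq

end OddX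

end Cfsg.Agent.H86.PSLSizes
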