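import Cfsg.Agent.H86.PSLSizes.OddBasic

/-!
# A centreless group with the class sizes of `PSL(2, q)`, `q` odd: simplicity
-/

set_option autoImplicit false
set_option linter.style.haveILetI false
set_option linter.unusedSectionVars false

namespace Cfsg.Agent.H86.PSLSizes

open Subgroup
open Cfsg.Agent.Hall.TwoSizes (IsQ)
open Cfsg.Agent.H86.ClassSizes
open Cfsg.Agent.H86.ThreeSizes

universe u

theorem eq_k_of_dvd {q h k z : ℕ} (P : OddParams q h k) (hz : z ∣ 2 * k) (hz1 : 2 ≤ z)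
    (hd : h ∣ z - 1) : z = k := by
  have hk := P.four; have hh := P.three_le_h
  have hle : h ≤ z - 1 := Nat.le_of_dvd (by omega) hd
  obtain ⟨m, hm⟩ := hz
  rcases Nat.lt_or_ge m 3 with hlt | hge
  · interval_cases m
    · omega
    · exfalso
      have hz2 : z = 2 * k := by omega
      subst hz2
      obtain ⟨j, hj⟩ := hd
      rcases P.adj with e | e
      · rcases Nat.lt_or_ge j 2 with hj2 | hj2
        · interval_cases j <;> omega
        · have : h * 2 ≤ h * j := Nat.mul_le_mul_left _ hj2; omega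
      · rcases Nat.lt_or_ge j 3 with hj2 | hj2
        · interval_cases j <;> omega
        · have : h * 3 ≤ h * j := Nat.mul_le_mul_left _ hj2; omega
    · omega
  · have : z * 3 ≤ z * m := Nat.mul_le_mul_left _ hge
    have := P.adj
    omega

namespace OddX

variable {X : Type u} [Group X] [Finite X] {q h k : ℕ}

/-- A subgroup of order divisible by a prime of `h` inside a normal subgroup forces solvability. -/
theorem false_of_normal_h (D : OddX X q h k) {N : Subgroup X} [N.Normal] (hN : N ≠ ⊤) {r : ℕ}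
    (hr : r.Prime) (hrh : r ∣ h) (hrN : r ∣ Nat.card ↥N) : False := by
  haveI : Fact r.Prime := ⟨hr⟩
  obtain ⟨R⟩ := (inferInstance : Nonempty (Sylow r ↥N))
  have hRb : (R : Subgroup ↥N) ≠ ⊥ := R.ne_bot_of_dvd_card hrN
  set R₀ := (R : Subgroup ↥N).map N.subtype with hR₀
  have hRp : IsPGroup r ↥R₀ := R.2.map _
  obtain ⟨⟨y, hy⟩, hy1⟩ := ne_bot_iff_exists_ne_one.1 hRb
  have hy0 : (y : X) ≠ 1 := fun e => hy1 (Subtype.ext (Subtype.ext e))
  have hyR : (y : X) ∈ R₀ := ⟨y, hy, rfl⟩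
  obtain ⟨P, hP⟩ := hRp.exists_le_sylow
  obtain ⟨z, hzP, hz, hzc⟩ := exists_central P
    (hrN.trans (card_subgroup_dvd_card N))
  have hz1 := ne_one_of_orderOf_prime hr hz
  have hzh : cc z = h := D.cc_eq_h_of_dvd hz1 hr hrh (by
    rw [← hz, ← orderOf_mk z (mem_cz.2 (Commute.refl z))]
    exact _root_.orderOf_dvd_natCard (⟨z, mem_cz.2 (Commute.refl z)⟩ : ↥(cz z)))
  have hRz : R₀ ≤ cz z := hP.trans hzc
  have hyz : cz (y : X) = cz z := (D.cz_eq_h hz1 hzh (hRz hyR) hy0).2
  have hle : normalizer (R₀ : Set X) ≤ normalizer (cz z : Set X) := fun g hg =>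
    D.mem_normalizer_h hz1 hzh (hRz hyR) hy0 (hRz ((mem_normalizer_iff.1 hg _).1 hyR))
  have hsol : Group.IsSolvable ↥(normalizer (R₀ : Set X)) :=
    isSolvable_of_le hle (D.normalizer_solvable_h hz1 hzh)
  have hsup : normalizer (R₀ : Set X) ⊔ N = ⊤ := Sylow.normalizer_sup_eq_top R
  haveI := hsol
  refine D.not_isSolvable_quotient hN (Group.isSolvable_of_surjective
    (f := (QuotientGroup.mk' N).comp (normalizer (R₀ : Set X)).subtype) fun v => ?_)
  induction v using QuotientGroup.induction_on with | _ g => ?_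
  obtain ⟨a, ha, b, hb, rfl⟩ := mem_sup_of_normal_right.1 (hsup.ge (mem_top g))
  exact ⟨⟨a, ha⟩, QuotientGroup.eq.2 (by simpa using hb)⟩

theorem isSimpleGroup (D : OddX X q h k) : IsSimpleGroup X := by
  haveI := D.nontrivial
  haveI : Fact (Nat.Prime 2) := ⟨Nat.prime_two⟩
  refine ⟨fun N hN => or_iff_not_imp_left.2 fun hbot => ?_⟩
  by_contra htop
  haveI := hN
  have hP := D.par
  have hk4 := hP.four; have hh3 := hP.three_le_h
  have hev : 2 ∣ Nat.card ↥N := by
    by_contra hodd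
    refine hbot (le_bot_iff.1 (D.rad_eq_bot ▸ le_rad hN (S0205.result ?_)))
    rwa [← Nat.not_even_iff_odd, even_iff_two_dvd]
  have hNh : (Nat.card ↥N).Coprime h := Nat.coprime_of_dvd fun r hr hrN hrh =>
    D.false_of_normal_h htop hr hrh hrN
  obtain ⟨T⟩ := (inferInstance : Nonempty (Sylow 2 ↥N))
  set T₀ := (T : Subgroup ↥N).map N.subtype with hT₀
  have hT2 : IsPGroup 2 ↥T₀ := T.2.map _
  have hTne : T₀ ≠ ⊥ := fun e => T.ne_bot_of_dvd_card hev
    ((map_eq_bot_iff_of_injective _ N.subtype_injective).1 e)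
  set L := normalizer (T₀ : Set X) with hL
  have hsup : L ⊔ N = ⊤ := Sylow.normalizer_sup_eq_top T
  -- `h` divides the order of `L`
  have hLh : h ∣ Nat.card ↥L := by
    have h1 : L.index ∣ Nat.card ↥N := by
      refine Dvd.intro_left (Nat.card ↥(L ⊓ N)) ?_
      have e1 : N.relIndex L = N.index := by rw [← relIndex_sup_right, hsup, relIndex_top_right]
      have e2 : Nat.card ↥(L ⊓ N) * N.index = Nat.card ↥L := by
        rw [← e1, ← Subgroup.inf_relIndex_left, relIndex,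
          ← Nat.card_congr (subgroupOfEquivOfLe (inf_le_left : L ⊓ N ≤ L)).toEquiv, card_mul_index]
      refine Nat.eq_of_mul_eq_mul_right (Nat.pos_of_ne_zero (index_ne_zero_of_finite (H := N))) ?_
      rw [mul_right_comm, e2, card_mul_index, card_mul_index]
    have h2 : h ∣ Nat.card ↥L * L.index := by
      rw [card_mul_index, D.card]
      exact Dvd.intro (q * (2 * k)) (by ring)
    exact (Nat.Coprime.coprime_dvd_left h1 hNh).symm.dvd_of_dvd_mul_right h2
  set Z := T₀ ⊓ centralizer (T₀ : Set X) with hZ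
  have hLZ : L ≤ normalizer (Z : Set X) := fun g hg => by
    have key : ∀ g ∈ L, ∀ v ∈ Z, g * v * g⁻¹ ∈ Z := fun g hg v hv =>
      ⟨(mem_normalizer_iff.1 hg v).1 hv.1, mem_centralizer_iff.2 fun u hu => by
        have h1 : g⁻¹ * u * g ∈ T₀ := (mem_normalizer_iff.1 hg _).2 (by
          rwa [show g * (g⁻¹ * u * g) * g⁻¹ = u by group])
        have h2 := commute_conj g (show Commute (g⁻¹ * u * g) v from mem_centralizer_iff.1 hv.2 _ h1)
        rwa [show g * (g⁻¹ * u * g) * g⁻¹ = u by group] at h2⟩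
    refine mem_normalizer_iff.2 fun v => ⟨key g hg v, fun hv => ?_⟩
    have := key g⁻¹ (inv_mem hg) _ hv
    rwa [inv_inv, show g⁻¹ * (g * v * g⁻¹) * g = v by group] at this
  have hfpf : h ∣ Nat.card ↥Z - 1 := by
    rw [Nat.dvd_iff_prime_pow_dvd_dvd]
    intro r e hr hre
    haveI : Fact r.Prime := ⟨hr⟩
    rcases Nat.eq_zero_or_pos e with rfl | he
    · simp
    have hrh : r ∣ h := (dvd_pow_self r he.ne').trans hre
    have hr2 : r ≠ 2 := fun e' => Nat.two_dvd_ne_zero.2 (Nat.odd_iff.1 hP.h_odd) (e' ▸ hrh)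
    obtain ⟨R, hR⟩ := Sylow.exists_subgroup_card_pow_prime (G := ↥L) r (hre.trans hLh)
    have hA : Nat.card ↥(R.map L.subtype) = r ^ e := by
      rw [← hR]; exact Nat.card_congr (R.equivMapOfInjective _ L.subtype_injective).symm.toEquiv
    rw [← hA]
    refine card_dvd_pred (fun a ha => hLZ (map_subtype_le _ ha)) fun a ha ha1 u hu huc => ?_
    by_contra hu1
    have ha' : IsQ r a := IsQ.of_mem (IsPGroup.of_card hA) ha
    obtain ⟨i, hi⟩ := ha'.orderOf_eq hr
    have hac : r ∣ cc a := by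
      have hi0 : i ≠ 0 := fun h0 => ha1 (orderOf_eq_one_iff.1 (by rw [hi, h0, pow_zero]))
      refine (dvd_pow_self r hi0).trans ?_
      rw [← hi, ← orderOf_mk a (mem_cz.2 (Commute.refl a))]
      exact _root_.orderOf_dvd_natCard (⟨a, mem_cz.2 (Commute.refl a)⟩ : ↥(cz a))
    have hah := D.cc_eq_h_of_dvd ha1 hr hrh hac
    obtain ⟨j, hj⟩ := (IsQ.of_mem hT2 hu.1).orderOf_eq Nat.prime_two
    have hj0 : j ≠ 0 := fun h0 => hu1 (orderOf_eq_one_iff.1 (by rw [hj, h0, pow_zero]))
    have h2 : 2 ∣ cc a := by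
      refine (dvd_pow_self 2 hj0).trans ?_
      rw [← hj, ← orderOf_mk u (mem_cz.2 huc)]
      exact _root_.orderOf_dvd_natCard (⟨u, mem_cz.2 huc⟩ : ↥(cz a))
    rw [hah] at h2
    exact Nat.two_dvd_ne_zero.2 (Nat.odd_iff.1 hP.h_odd) h2
  -- the orders of `T₀` and of its centre
  obtain ⟨i, hi⟩ := IsPGroup.iff_card.1 hT2
  have hT2k : Nat.card ↥T₀ ∣ 2 * k := by
    have hd : Nat.card ↥T₀ ∣ q * h * (2 * k) := D.card ▸ card_subgroup_dvd_card T₀
    rw [hi] at hd ⊢
    exact Nat.Coprime.dvd_of_dvd_mul_left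
      ((Nat.coprime_two_left.2 (hP.q_odd.mul hP.h_odd)).pow_left i) hd
  have hZne : 2 ≤ Nat.card ↥Z := by
    haveI : Nontrivial ↥T₀ := (nontrivial_iff_ne_bot T₀).2 hTne
    haveI := hT2.center_nontrivial
    obtain ⟨⟨⟨c, hc⟩, hcc⟩, hc1⟩ := exists_ne (1 : ↥(center ↥T₀))
    refine Z.one_lt_card_iff_ne_bot.2 fun e => hc1 (Subtype.ext (Subtype.ext (mem_bot.1 (e.le
      (⟨hc, mem_centralizer_iff.2 fun u hu => congrArg Subtype.val (mem_center_iff.1 hcc ⟨u, hu⟩)⟩ :
        c ∈ Z)))))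
  have hZk : Nat.card ↥Z = k := eq_k_of_dvd hP ((card_dvd_of_le inf_le_left).trans hT2k) hZne hfpf
  have hTk : Nat.card ↥T₀ = k := by
    obtain ⟨m, hm⟩ := card_dvd_of_le (inf_le_left : Z ≤ T₀)
    rw [hZk] at hm
    rcases Nat.lt_or_ge m 2 with hlt | hge
    · interval_cases m
      · exfalso
        have := Nat.card_pos (α := ↥T₀)
        omega
      · rw [hm, mul_one]
    · exfalso
      have h1 : k * 2 ≤ k * m := Nat.mul_le_mul_left _ hge
      have h2 : k * m ≤ 2 * k := Nat.le_of_dvd (by omega) (hm ▸ hT2k)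
      have hT : Nat.card ↥T₀ = k * 2 := by rw [hm]; omega
      -- `T₀` would be abelian
      obtain ⟨c, hc, hcZ⟩ := SetLike.exists_of_lt (lt_of_le_of_ne (inf_le_left : Z ≤ T₀) fun e => by
        rw [← e, hZk] at hT; omega)
      refine hcZ ⟨hc, mem_centralizer_iff.2 fun u hu => ?_⟩
      -- the centraliser of `c` in `T₀` is everything
      set C := T₀ ⊓ cz c with hCdef
      have hZC : Z < C := lt_of_le_of_ne (fun v hv => ⟨hv.1, mem_cz.2 (mem_centralizer_iff.1 hv.2 c hc).symm⟩)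
        fun e => hcZ (e.ge (⟨hc, mem_cz.2 (Commute.refl c)⟩ : c ∈ C))
      obtain ⟨n, hn⟩ := card_dvd_of_le hZC.le
      have hCle : Nat.card ↥C ≤ k * 2 := hT ▸ card_le_of_le inf_le_left
      have hn2 : 2 ≤ n := by
        by_contra hlt'
        interval_cases n
        · have := Nat.card_pos (α := ↥C); omega
        · exact hZC.ne (eq_of_le_of_card_ge hZC.le (by rw [hn, mul_one]))
      rw [hZk] at hn
      have hCT : C = T₀ := eq_of_le_of_card_ge inf_le_left (by
        rw [hn, hT]; exact Nat.mul_le_mul_left _ hn2)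
      exact (mem_cz.1 ((hCT.symm ▸ hu : u ∈ C)).2).eq
  -- a normal complement in the quotient
  obtain ⟨Q⟩ := (inferInstance : Nonempty (Sylow 2 (X ⧸ N)))
  refine D.not_isSolvable_quotient htop (isSolvable_of_cyclic_two Q ?_)
  obtain ⟨j, hj⟩ := IsPGroup.iff_card.1 Q.2
  have hk1 : Nat.card ↥(Q : Subgroup (X ⧸ N)) * k ∣ k * 2 := by
    have hd : Nat.card ↥(Q : Subgroup (X ⧸ N)) * k ∣ q * h * (2 * k) := by
      rw [← D.card, card_eq_card_quotient_mul_card_subgroup N, ← hTk]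
      exact Nat.mul_dvd_mul (card_subgroup_dvd_card _) (card_dvd_of_le (map_subtype_le _))
    have hco : (Nat.card ↥(Q : Subgroup (X ⧸ N)) * k).Coprime (q * h) := by
      rw [hj, ← hTk, hi, ← pow_add]
      exact (Nat.coprime_two_left.2 (hP.q_odd.mul hP.h_odd)).pow_left _
    rw [mul_comm k 2]
    exact hco.dvd_of_dvd_mul_left hd
  rw [mul_comm] at hk1
  have h2 := Nat.le_of_dvd two_pos (Nat.dvd_of_mul_dvd_mul_left (by omega) hk1)
  rcases Nat.lt_or_ge 1 (Nat.card ↥(Q : Subgroup (X ⧸ N))) with hlt | hge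
  · exact isCyclic_of_prime_card (p := 2) (by omega)
  · haveI := Finite.card_le_one_iff_subsingleton.1 hge
    infer_instance

end OddX

end Cfsg.Agent.H86.PSLSizes
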