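import Cfsg.Agent.H86.PSLSizes.OddSimple
import Cfsg.Agent.H86.PrimeGraph.PSLGraph
import Cfsg.Agent.S0348

/-!
# Odd `q`: the case of centralisers of involutions of `2`-power order
-/

set_option autoImplicit false
set_option linter.style.haveILetI false
set_option linter.unusedSectionVars false

namespace Cfsg.Agent.H86.PSLSizes

open Subgroup
open Cfsg.Agent.Hall.TwoSizes (IsQ)
open Cfsg.Agent.H86.ClassSizes

universe u

namespace OddX

variable {X : Type u} [Group X] [Finite X] {q h k : ℕ}

theorem exists_noncommuting (D : OddX X q h k) : ∃ a b : X, a * b ≠ b * a := by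
  by_contra hcon
  push Not at hcon
  exact D.not_isSolvable (Group.isSolvable_of_comm hcon)

/-- Recognition from a field with a group isomorphic to `X`. -/
theorem of_iso (D : OddX X q h k) {F : Type*} [Field F] [Fintype F] (hq : Fintype.card F = q)
    {F' : Type*} [Field F'] [Fintype F'] (hodd : Odd (Fintype.card F'))
    (e : X ≃* Matrix.ProjectiveSpecialLinearGroup (Fin 2) F') :
    Nonempty (X ≃* Matrix.ProjectiveSpecialLinearGroup (Fin 2) F) := by
  have h1 := Linear.card_PSL_two_mul (F := F')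
  rw [Nat.gcd_eq_left (Nat.Odd.sub_odd hodd odd_one).two_dvd, ← Nat.card_congr e.toEquiv, D.card] at h1
  have hs := D.par.sq
  have h2 : q ^ 2 - 1 = 4 * (h * k) := by omega
  obtain ⟨f⟩ := nonempty_psl_congr (F := F') (K := F) (by
    rw [hq]
    refine (eq_of_order_eq ?_ (by have := D.par.seven_le; omega)).symm
    rw [← h1, h2]
    ring)
  exact ⟨e.trans f⟩

theorem isPGroup_cz_involution (D : OddX X q h k) {a : ℕ} (hk : k = 2 ^ a) {t : X} (ht : orderOf t = 2) :
    IsPGroup 2 ↥(cz t) := by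
  have ht1 := ne_one_of_orderOf_prime Nat.prime_two ht
  have h2 : 2 ∣ cc t := by
    rw [← ht, ← orderOf_mk t (mem_cz.2 (Commute.refl t))]
    exact _root_.orderOf_dvd_natCard (⟨t, mem_cz.2 (Commute.refl t)⟩ : ↥(cz t))
  rcases D.cases ht1 with ⟨e, -⟩ | ⟨e, -⟩ | ⟨e, -⟩ | ⟨e, -⟩ <;> rw [e] at h2
  · exact absurd h2 (Nat.two_dvd_ne_zero.2 (Nat.odd_iff.1 D.par.q_odd))
  · exact absurd h2 (Nat.two_dvd_ne_zero.2 (Nat.odd_iff.1 D.par.h_odd))
  · exact IsPGroup.of_card (n := a + 1) (by rw [show Nat.card ↥(cz t) = 2 * k from e, hk, pow_succ'])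
  · exact IsPGroup.of_card (n := a) (e.trans hk)

theorem psl_of_two_pow (D : OddX X q h k) {F : Type*} [Field F] [Fintype F] (hq : Fintype.card F = q)
    {a : ℕ} (hk : k = 2 ^ a) : Nonempty (X ≃* Matrix.ProjectiveSpecialLinearGroup (Fin 2) F) := by
  haveI := D.isSimpleGroup
  have hP := D.par
  have hk4 := hP.four
  rcases S0348.result D.exists_noncommuting (fun t ht => D.isPGroup_cz_involution hk ht) with
    ⟨F', _, _, -, ⟨e⟩⟩ | ⟨F', _, _, hF', ⟨e⟩⟩ | hSz
  · rcases Nat.even_or_odd (Fintype.card F') with hev | hodd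
    swap
    · exact D.of_iso hq hodd e
    exfalso
    have h1 := Linear.card_PSL_two_mul (F := F')
    obtain ⟨p, _, n, hp, hn⟩ := FiniteField.card' (K := F')
    have hp2 : p = 2 := by
      have h2 : 2 ∣ p ^ (n : ℕ) := hn ▸ hev.two_dvd
      exact ((Nat.prime_dvd_prime_iff_eq Nat.prime_two hp).1 (Nat.prime_two.dvd_of_dvd_pow h2)).symm
    subst hp2
    rw [← Nat.card_congr e.toEquiv, D.card, Nat.coprime_two_left.2 (by
      rw [hn, Nat.odd_iff]
      have : 2 ∣ 2 ^ (n : ℕ) := dvd_pow_self 2 n.pos.ne'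
      have : 0 < 2 ^ (n : ℕ) := pow_pos two_pos _
      omega), one_mul, hn] at h1
    have hodd' : Odd ((2 ^ (n : ℕ)) ^ 2 - 1) := by
      rw [Nat.odd_iff]
      have : 2 ∣ (2 ^ (n : ℕ)) ^ 2 := (dvd_pow_self 2 n.pos.ne').trans (dvd_pow_self _ two_ne_zero)
      have : 0 < (2 ^ (n : ℕ)) ^ 2 := pow_pos (pow_pos two_pos _) _
      omega
    have e1 : 2 ^ (n : ℕ) = 2 * k := by
      have hk2 : 2 * k = 2 ^ (a + 1) := by rw [hk, pow_succ']
      refine Nat.dvd_antisymm ?_ ?_
      · refine Nat.Coprime.dvd_of_dvd_mul_left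
          ((Nat.coprime_two_left.2 (hP.q_odd.mul hP.h_odd)).pow_left _) ⟨_, h1⟩
      · rw [hk2] at h1 ⊢
        refine Nat.Coprime.dvd_of_dvd_mul_right ((Nat.coprime_two_left.2 hodd').pow_left _) ?_
        exact ⟨q * h, by rw [← h1]; ring⟩
    have e2 : q * h + 1 = (2 * k) ^ 2 := by
      have : q * h = (2 * k) ^ 2 - 1 := by
        refine Nat.eq_of_mul_eq_mul_right (show 0 < 2 * k by omega) ?_
        rw [← e1] at h1 ⊢
        linear_combination h1
      have : 0 < (2 * k) ^ 2 := by positivity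
      omega
    have := hP.eq
    rcases hP.adj with e' | e' <;> subst e'
    · subst this; nlinarith
    · subst this; nlinarith
  · exfalso
    have hc : 3 * Nat.card X = 60480 := by
      have h1 := Linear.card_center_mul_card_PSL (ι := Fin 3) (F := F')
      rw [Linear.card_SL_three, Linear.card_center_SL, ← Nat.card_congr e.toEquiv, hF', Fintype.card_fin] at h1
      norm_num at h1
      rw [h1]
    rw [D.card] at hc
    have ha : a ≤ 5 := by
      by_contra hlt
      have h1 : 2 ^ 6 ≤ k := hk ▸ Nat.pow_le_pow_right two_pos (by omega)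
      have h2 := hP.eq
      have h3 : 63 ≤ h := by have := hP.adj; omega
      have h4 : 127 * 63 * (2 * 64) ≤ q * h * (2 * k) := by gcongr <;> omega
      omega
    have := hP.eq
    subst hk
    interval_cases a <;> rcases hP.adj with e' | e' <;> subst this
    all_goals first
      | (norm_num at hk4; done)
      | (norm_num at e'; subst e'; norm_num at hc; done)
      | (rw [show h = _ - 1 from (Nat.sub_eq_of_eq_add e').symm] at hc; norm_num at hc; done)
  · exfalso
    refine PrimeGraph.three_not_dvd_suzuki hSz ?_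
    rw [D.card]
    have hs := hP.sq
    have hq0 : q % 3 = 0 ∨ q ^ 2 % 3 = 1 := by
      rw [Nat.pow_mod]
      have : q % 3 < 3 := Nat.mod_lt _ (by norm_num)
      interval_cases (q % 3) <;> simp
    rcases hq0 with h0 | h0
    · exact Dvd.dvd.mul_right (Dvd.dvd.mul_right (Nat.dvd_of_mod_eq_zero h0) _) _
    · have h3 : 3 ∣ h * k := by omega
      rw [show q * h * (2 * k) = (h * k) * (2 * q) by ring]
      exact h3.mul_right _

end OddX

end Cfsg.Agent.H86.PSLSizes
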