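import Cfsg.Agent.H86.ThreeSizes.Basic
import Cfsg.Agent.H86.PSLSizes.Arith

/-!
# Class sizes modulo the centre

For `x : G`, `czs x` is the preimage of the centraliser of the image of `x` in `G ⧸ center G`.
-/

set_option autoImplicit false
set_option linter.style.haveILetI false
set_option linter.unusedSectionVars false

namespace Cfsg.Agent.H86.PSLSizes

open Subgroup
open Cfsg.Agent.Hall.TwoSizes (IsQ)
open Cfsg.Agent.H86.ClassSizes
open Cfsg.Agent.H86.ThreeSizes

universe u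

variable {G : Type u} [Group G] [Finite G]

/-- Modulo the centre, the image of an element. -/
abbrev bar (x : G) : G ⧸ center G := QuotientGroup.mk' (center G) x

/-- The preimage of the centraliser of the image of an element modulo the centre. -/
abbrev czs (x : G) : Subgroup G := (cz (bar x)).comap (QuotientGroup.mk' (center G))

theorem mem_czs {x n : G} : n ∈ czs x ↔ n * x * n⁻¹ * x⁻¹ ∈ center G := by
  rw [mem_comap, mem_cz, commute_iff_eq, ← map_mul, ← map_mul, QuotientGroup.mk'_apply,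
    QuotientGroup.mk'_apply, QuotientGroup.eq,
    show n * x * n⁻¹ * x⁻¹ = ((x * n) * (n * x)⁻¹)⁻¹ by group, inv_mem_iff]
  refine ⟨fun h => ?_, fun h => ?_⟩
  · have h' := inv_mem (show (n * x)⁻¹ * (x * n) ∈ center G from h)
    rw [show (x * n) * (n * x)⁻¹ = (n * x) * ((n * x)⁻¹ * (x * n)) * (n * x)⁻¹ by group]
    exact Subgroup.Normal.conj_mem inferInstance _ h _
  · rw [show (n * x)⁻¹ * (x * n) = (n * x)⁻¹ * ((x * n) * (n * x)⁻¹) * (n * x)⁻¹⁻¹ by group]
    exact Subgroup.Normal.conj_mem inferInstance _ h _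

theorem cz_le_czs (x : G) : cz x ≤ czs x := fun n hn => by
  rw [mem_czs, (mem_cz.1 hn).eq, show x * n * n⁻¹ * x⁻¹ = 1 by group]
  exact one_mem _

/-- The commutator with `x`, as a homomorphism into the centre. -/
def comHom (x : G) : ↥(czs x) →* ↥(center G) where
  toFun n := ⟨(n : G) * x * (n : G)⁻¹ * x⁻¹, mem_czs.1 n.2⟩
  map_one' := Subtype.ext (by simp)
  map_mul' a b := Subtype.ext (by
    have hz := mem_center_iff.1 (mem_czs.1 b.2)
    set z := (b : G) * x * (b : G)⁻¹ * x⁻¹ with hzdef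
    show (a : G) * (b : G) * x * ((a : G) * (b : G))⁻¹ * x⁻¹ = (a : G) * x * (a : G)⁻¹ * x⁻¹ * z
    rw [show (a : G) * (b : G) * x * ((a : G) * (b : G))⁻¹ * x⁻¹ =
      ((a : G) * z) * x * (a : G)⁻¹ * x⁻¹ by rw [hzdef]; group, hz (a : G),
      show z * (a : G) * x * (a : G)⁻¹ * x⁻¹ = z * ((a : G) * x * (a : G)⁻¹ * x⁻¹) by group]
    exact (hz _).symm)

theorem comHom_ker (x : G) : (comHom x).ker = (cz x).subgroupOf (czs x) := by
  ext n
  rw [MonoidHom.mem_ker, mem_subgroupOf, mem_cz, commute_iff_eq]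
  refine ⟨fun h => ?_, fun h => Subtype.ext ?_⟩
  · have h' : (n : G) * x * (n : G)⁻¹ * x⁻¹ = 1 := congrArg Subtype.val h
    rw [mul_inv_eq_one, mul_inv_eq_iff_eq_mul] at h'
    exact h'
  · show (n : G) * x * (n : G)⁻¹ * x⁻¹ = 1
    rw [h]; group

theorem relIndex_czs (x : G) : (cz x).relIndex (czs x) = Nat.card ↥(comHom x).range := by
  rw [relIndex, ← comHom_ker, index_ker]

/-- The ratio of the two centralisers is a power of `q` if the `q'`-part of `x` is centralised. -/
theorem relIndex_czs_isPow {q : ℕ} [Fact q.Prime] {x : G} {j : ℕ}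
    (h : ∀ n ∈ czs x, Commute n (x ^ q ^ j)) :
    ∃ i : ℕ, (cz x).relIndex (czs x) = q ^ i := by
  rw [relIndex_czs]
  refine IsPGroup.iff_card.1 ?_
  rintro ⟨z, n, rfl⟩
  refine ⟨j, Subtype.ext (Subtype.ext ?_)⟩
  show ((n : G) * x * (n : G)⁻¹ * x⁻¹) ^ q ^ j = 1
  have hz : Commute ((n : G) * x * (n : G)⁻¹ * x⁻¹) x :=
    (mem_center_iff.1 (mem_czs.1 n.2) x).symm
  have he : ((n : G) * x * (n : G)⁻¹ * x⁻¹) * x = (n : G) * x * (n : G)⁻¹ := by group
  have h1 := hz.mul_pow (q ^ j)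
  rw [he, conj_pow, (h n n.2).eq, mul_inv_cancel_right] at h1
  exact mul_eq_right.1 h1.symm

theorem relIndex_czs_isPow_of_isQ {q : ℕ} [Fact q.Prime] {x : G} (hx : IsQ q x) :
    ∃ i : ℕ, (cz x).relIndex (czs x) = q ^ i := by
  obtain ⟨j, hj⟩ := hx
  exact relIndex_czs_isPow (j := j) fun n _ => by rw [hj]; exact Commute.one_right n

theorem sz_bar_mul (x : G) : (cz x).relIndex (czs x) * sz (bar x) = sz x := by
  rw [sz, sz, ← index_comap_of_surjective (f := QuotientGroup.mk' (center G)) (cz (bar x))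
    (QuotientGroup.mk'_surjective _)]
  exact relIndex_mul_index (cz_le_czs x)

theorem czs_eq_of_ndvd {q : ℕ} (hq : q.Prime) {x : G} (hx : IsQ q x) (h : ¬ q ∣ sz x) :
    czs x = cz x := by
  haveI : Fact q.Prime := ⟨hq⟩
  obtain ⟨i, hi⟩ := relIndex_czs_isPow_of_isQ hx
  rcases Nat.eq_zero_or_pos i with rfl | hpos
  · exact le_antisymm (relIndex_eq_one.1 (by rwa [pow_zero] at hi)) (cz_le_czs x)
  · exact absurd ((hi ▸ dvd_pow_self q hpos.ne').trans ⟨_, (sz_bar_mul x).symm⟩) h

theorem czs_le_of_mem_zpowers {x w : G} (hw : w ∈ zpowers x) : czs x ≤ czs w :=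
  comap_mono (le_cz_of_mem_zpowers (by
    obtain ⟨k, rfl⟩ := mem_zpowers_iff.1 hw
    exact mem_zpowers_iff.2 ⟨k, (map_zpow _ x k).symm⟩))

/-- If the class sizes of the primary parts of `x` are prime to their primes, then nothing more
centralises `x` modulo the centre. -/
theorem commute_of_parts {x n : G} (hn : n ∈ czs x)
    (h : ∀ q : ℕ, q.Prime → ∀ w ∈ zpowers x, IsQ q w → w ∉ center G → ¬ q ∣ sz w) :
    Commute n x := by
  have hle : zpowers x ≤ cz n := le_of_forall_isQ fun q hq w hw hwq => by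
    by_cases hwz : w ∈ center G
    · exact mem_cz.2 (mem_center_iff.1 hwz n).symm
    · have hw' := (czs_eq_of_ndvd hq hwq (h q hq w hw hwq hwz)).le (czs_le_of_mem_zpowers hw hn)
      exact mem_cz.2 (mem_cz.1 hw').symm
  exact (mem_cz.1 (hle (mem_zpowers x))).symm

theorem sz_bar_of_parts {x : G}
    (h : ∀ q : ℕ, q.Prime → ∀ w ∈ zpowers x, IsQ q w → w ∉ center G → ¬ q ∣ sz w) :
    sz (bar x) = sz x := by
  have h1 := sz_bar_mul x
  rwa [relIndex_eq_one.2 (fun n hn => mem_cz.2 (commute_of_parts hn h)), one_mul] at h1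

/-! ### The primes of the central quotient -/

theorem exists_dvd_sz {q : ℕ} [Fact q.Prime] (h : q ∣ (center G).index) :
    ∃ x : G, q ∣ sz x := by
  by_contra hcon
  push Not at hcon
  obtain ⟨P⟩ := (inferInstance : Nonempty (Sylow q G))
  have htop : centralizer ((P : Subgroup G) : Set G) = ⊤ := by
    refine H75.eq_top_of_conj_cover _ fun x => ?_
    obtain ⟨Q, hQ⟩ := exists_sylow_le_cz (hcon x)
    obtain ⟨g, hg⟩ := MulAction.exists_smul_eq G Q P
    refine ⟨g, mem_centralizer_iff.2 fun w hw => ?_⟩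
    rw [← hg] at hw
    obtain ⟨v, hv, rfl⟩ := hw
    exact (commute_conj g (mem_cz.1 (hQ hv))).eq
  refine P.not_dvd_index (h.trans (index_dvd_of_le fun w hw => mem_center_iff.2 fun g => ?_))
  exact (mem_centralizer_iff.1 (htop.ge (mem_top g)) w hw).symm

/-- A class size which no other class size properly divides, and which divides no other. -/
def Extremal (y : G) : Prop :=
  ∀ v : G, v ∉ center G → sz v ∣ sz y ∨ sz y ∣ sz v → sz v = sz y

theorem sz_cases_eq {y v : G} (hy : Extremal y) (hv : v ∉ center G) (h : cz y ≤ cz v) :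
    cz v = cz y :=
  (cz_eq_of_le h (by rw [hy v hv (.inl (sz_dvd_of_le h))])).symm

theorem cz_eq_of_prime {y w v : G} (hy : Extremal y) (hyz : y ∉ center G) {p r : ℕ} (hp : p.Prime)
    (hr : r.Prime) (hpr : p ≠ r) (hw : IsQ p w) (hwy : cz w = cz y) (hv : IsQ r v)
    (hvy : v ∈ cz y) (hvz : v ∉ center G) : cz v = cz y := by
  have hc : Commute w v := (mem_cz.1 (hwy.symm ▸ hvy : v ∈ cz w)).symm
  have hco := orderOf_coprime_of_isQ hp hr hpr hw hv
  have hle : cz (w * v) ≤ cz y := (cz_mul_le_left hc hco).trans hwy.le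
  have hz : w * v ∉ center G := fun hm => hyz (sz_eq_one_iff.1
    (Nat.dvd_one.1 ((sz_eq_one_iff.2 hm) ▸ sz_dvd_of_le hle)))
  have he : cz (w * v) = cz y := cz_eq_of_le hle (by rw [hy _ hz (.inr (sz_dvd_of_le hle))])
  exact sz_cases_eq hy hvz (he.ge.trans (cz_mul_le_right hc hco))

/-- An extremal centraliser with two primes is abelian, in a strong form. -/
theorem cz_eq_of_extremal {y : G} (hy : Extremal y) (hyz : y ∉ center G) {r s : ℕ} (hr : r.Prime)
    (hs : s.Prime) (hrs : r ≠ s) (hry : r ∣ mz y) (hsy : s ∣ mz y) {q : ℕ} (hq : q.Prime) {e : G}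
    (he : IsQ q e) (hey : e ∈ cz y) (hez : e ∉ center G) : cz e = cz y := by
  obtain ⟨p, hp, w, hw, hwp, hwz⟩ := exists_isQ_power hyz
  have hwy : cz w = cz y := sz_cases_eq hy hwz (le_cz_of_mem_zpowers hw)
  by_cases hqp : p = q
  swap
  · exact cz_eq_of_prime hy hyz hp hq hqp hwp hwy he hey hez
  obtain ⟨t, ht, htp, hty⟩ : ∃ t : ℕ, t.Prime ∧ t ≠ p ∧ t ∣ mz y := by
    by_cases hrp : r = p
    · exact ⟨s, hs, fun e' => hrs (hrp.trans e'.symm), hsy⟩
    · exact ⟨r, hr, hrp, hry⟩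
  obtain ⟨v, hv, hvt, hvz⟩ := exists_isQ_of_dvd ht hty
  exact cz_eq_of_prime hy hyz ht hq (hqp ▸ htp) hvt
    (cz_eq_of_prime hy hyz hp ht htp.symm hwp hwy hvt hv hvz) he hey hez

/-- A prime of an extremal centraliser with two primes divides every class size dividing it not. -/
theorem false_of_extremal {y x : G} (hy : Extremal y) (hyz : y ∉ center G) {r s : ℕ} (hr : r.Prime)
    (hs : s.Prime) (hrs : r ≠ s) (hry : r ∣ mz y) (hsy : s ∣ mz y) (hx : ¬ r ∣ sz x)
    (hne : ¬ sz x ∣ sz y) : False := by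
  haveI : Fact r.Prime := ⟨hr⟩
  obtain ⟨d, hd, hdr, hdz⟩ := exists_isQ_of_dvd hr hry
  have heq := cz_eq_of_extremal hy hyz hr hs hrs hry hsy hr hdr hd hdz
  obtain ⟨g, hg⟩ := exists_commute_conj hx hdr
  have hab : cz d ≤ centralizer (cz d : Set G) := le_of_forall_isQ fun q hq e he heq' =>
    mem_centralizer_iff.2 fun u hu => by
      by_cases hez : e ∈ center G
      · exact mem_center_iff.1 hez u
      · rw [heq] at he hu
        rw [← cz_eq_of_extremal hy hyz hr hs hrs hry hsy hq heq' he hez] at hu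
        exact (mem_cz.1 hu).eq
  set x' := g⁻¹ * x * g with hx'
  have hx'd : x' ∈ cz d := mem_cz.2 (by
    have := commute_conj g⁻¹ hg.symm
    rwa [inv_inv, show g⁻¹ * (g * d * g⁻¹) * g = d by group] at this)
  have hle : cz d ≤ cz x' := fun u hu => mem_cz.2
    (mem_centralizer_iff.1 (hab hx'd) u hu)
  refine hne ?_
  have h1 := sz_dvd_of_le hle
  rwa [show sz x' = sz x by rw [hx', ← sz_conj g⁻¹ x, inv_inv], show sz d = sz y by rw [sz, sz, heq]]
    at h1

/-- The set of nontrivial class sizes. -/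
structure HasSizes (G : Type u) [Group G] (S : Set ℕ) : Prop where
  mem : ∀ x : G, x ∉ center G → sz x ∈ S
  exi : ∀ n ∈ S, ∃ x : G, sz x = n

theorem hasSizes_of_range {S : Set ℕ}
    (h : Set.range (fun g : G => sz g) = insert 1 S) : HasSizes G S where
  mem x hx := by
    rcases h.le ⟨x, rfl⟩ with e | e
    · exact absurd (sz_eq_one_iff.1 e) hx
    · exact e
  exi n hn := h.ge (Set.mem_insert_of_mem _ hn)

theorem not_mem_center_of_sz {S : Set ℕ} (h1 : 1 ∉ S) {x : G} (hx : sz x ∈ S) :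
    x ∉ center G := fun hz => h1 (sz_eq_one_iff.2 hz ▸ hx)

end Cfsg.Agent.H86.PSLSizes
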